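import Groth.Prelude.Def_Curv2
import Mathlib.AlgebraicGeometry.Normalization
import Mathlib.AlgebraicGeometry.Morphisms.Finite
import Mathlib.AlgebraicGeometry.FunctionField

/-!
A finite normalisation map of an integral scheme is an isomorphism over a nonempty open.
-/

universe u

open AlgebraicGeometry CategoryTheory

namespace Groth.L22.BM

theorem isIso_of_bijective_commRing {A B : CommRingCat.{u}} (φ : A ⟶ B)
    (h : Function.Bijective φ.hom) : IsIso φ :=
  (ConcreteCategory.isIso_iff_bijective φ).mpr h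

/-- A finite morphism whose sections over an affine open embed compatibly into a ring in which every
element has a denominator from the base is an isomorphism over a nonempty open. -/
theorem exists_isIso_morphismRestrict_of_denominators {Z N : Scheme.{u}} [IsIntegral Z]
    (ν : N ⟶ Z) [IsFinite ν] {U : Z.Opens} (hU : IsAffineOpen U) {K : Type u} [CommRing K]
    (θ : Γ(Z, U) →+* K) (κ : Γ(N, ν ⁻¹ᵁ U) →+* K) (hκ : Function.Injective κ)
    (hθ : Function.Injective θ) (hκθ : ∀ a, κ ((ν.app U).hom a) = θ a)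
    (hden : ∀ k : K, ∃ s a : Γ(Z, U), s ≠ 0 ∧ k * θ s = θ a) [Nonempty U] :
    ∃ W : Z.Opens, (W : Set Z).Nonempty ∧ IsIso (ν ∣_ W) := by
  classical
  letI := (ν.app U).hom.toAlgebra
  haveI : Module.Finite Γ(Z, U) Γ(N, ν ⁻¹ᵁ U) := ν.finite_app U hU
  obtain ⟨G, hG⟩ := (Module.Finite.fg_top : (⊤ : Submodule Γ(Z, U) Γ(N, ν ⁻¹ᵁ U)).FG)
  choose den num hd0 hnum using fun b : Γ(N, ν ⁻¹ᵁ U) => hden (κ b)
  let s : Γ(Z, U) := ∏ b ∈ G, den b
  have hs0 : s ≠ 0 := Finset.prod_ne_zero_iff.mpr fun b _ => hd0 b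
  have hs : ∀ b : Γ(N, ν ⁻¹ᵁ U), ∃ a, (ν.app U).hom s * b = (ν.app U).hom a := by
    intro b
    have hb : b ∈ Submodule.span Γ(Z, U) (G : Set Γ(N, ν ⁻¹ᵁ U)) := hG ▸ Submodule.mem_top
    induction hb using Submodule.span_induction with
    | mem b hb =>
      refine ⟨num b * ∏ c ∈ G.erase b, den c, hκ ?_⟩
      have hsplit : s = den b * ∏ c ∈ G.erase b, den c :=
        (Finset.mul_prod_erase G den hb).symm
      rw [map_mul, hκθ, hκθ, hsplit, map_mul, map_mul, ← hnum b]
      ring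
    | zero => exact ⟨0, by simp⟩
    | add x y _ _ hx hy =>
      obtain ⟨a, ha⟩ := hx
      obtain ⟨c, hc⟩ := hy
      exact ⟨a + c, by rw [mul_add, ha, hc, map_add]⟩
    | smul r x _ hx =>
      obtain ⟨a, ha⟩ := hx
      refine ⟨r * a, ?_⟩
      rw [Algebra.smul_def, RingHom.algebraMap_toAlgebra, mul_left_comm, ha, map_mul]
  let W := Z.basicOpen s
  have hWU : W ≤ U := Z.basicOpen_le s
  refine ⟨W, ?_, (isIso_morphismRestrict_iff_isIso_app ν (hU.basicOpen s)).mpr
    (isIso_of_bijective_commRing _ ?_)⟩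
  · by_contra h
    refine hs0 ((basicOpen_eq_bot_iff s).mp ?_)
    exact TopologicalSpace.Opens.ext (Set.not_nonempty_iff_eq_empty.mp h)
  letI algW : Algebra Γ(Z, U) Γ(Z, W) := (Z.presheaf.map (homOfLE hWU).op).hom.toAlgebra
  haveI : IsLocalization.Away s Γ(Z, W) := hU.isLocalization_of_eq_basicOpen s (homOfLE hWU) rfl
  letI algN : Algebra Γ(N, ν ⁻¹ᵁ U) Γ(N, ν ⁻¹ᵁ W) :=
    (N.presheaf.map (homOfLE (ν.preimage_mono hWU)).op).hom.toAlgebra
  haveI : IsLocalization.Away ((ν.app U).hom s) Γ(N, ν ⁻¹ᵁ W) :=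
    (hU.preimage ν).isLocalization_of_eq_basicOpen _ (homOfLE (ν.preimage_mono hWU))
      (ν.preimage_basicOpen s)
  have hnat : ∀ a, (ν.app W).hom (algebraMap Γ(Z, U) Γ(Z, W) a) =
      algebraMap Γ(N, ν ⁻¹ᵁ U) Γ(N, ν ⁻¹ᵁ W) ((ν.app U).hom a) := fun a =>
    ConcreteCategory.congr_hom (ν.naturality (homOfLE hWU).op) a
  have hu : IsUnit (algebraMap Γ(N, ν ⁻¹ᵁ U) Γ(N, ν ⁻¹ᵁ W) ((ν.app U).hom s)) :=
    IsLocalization.Away.algebraMap_isUnit _
  refine ⟨(injective_iff_map_eq_zero _).mpr fun c hc => ?_, fun c => ?_⟩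
  · obtain ⟨⟨a, ⟨_, m, rfl⟩⟩, ha⟩ := IsLocalization.surj (Submonoid.powers s) c
    have h1 := congrArg (ν.app W).hom ha
    rw [map_mul, hc, zero_mul, hnat] at h1
    obtain ⟨⟨_, k, rfl⟩, hk⟩ :=
      (IsLocalization.map_eq_zero_iff (Submonoid.powers ((ν.app U).hom s)) _ _).mp h1.symm
    have h2 : s ^ k * a = 0 := hθ (by rw [map_zero, ← hκθ, map_mul, map_pow, hk, map_zero])
    have h3 : a = 0 := (mul_eq_zero.mp h2).resolve_left (pow_ne_zero _ hs0)
    rw [h3, map_zero] at ha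
    exact (((IsLocalization.Away.algebraMap_isUnit (S := Γ(Z, W)) s).pow m).mul_left_eq_zero).mp
      (by rw [← map_pow]; exact ha)
  · obtain ⟨⟨b, ⟨_, m, rfl⟩⟩, hb⟩ :=
      IsLocalization.surj (Submonoid.powers ((ν.app U).hom s)) c
    obtain ⟨a, ha⟩ := hs b
    refine ⟨IsLocalization.mk' Γ(Z, W) a (⟨s ^ (m + 1), m + 1, rfl⟩ : Submonoid.powers s), ?_⟩
    refine (hu.pow (m + 1)).mul_left_inj.mp ?_
    have hspec : IsLocalization.mk' Γ(Z, W) a
        (⟨s ^ (m + 1), m + 1, rfl⟩ : Submonoid.powers s) * algebraMap Γ(Z, U) Γ(Z, W) (s ^ (m + 1)) =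
        algebraMap Γ(Z, U) Γ(Z, W) a := IsLocalization.mk'_spec _ _ _
    have h1 := congrArg (ν.app W).hom hspec
    rw [map_mul, hnat, hnat, map_pow, map_pow] at h1
    rw [h1, ← ha, map_mul, pow_succ, ← mul_assoc]
    simp only [map_pow] at hb
    rw [hb]
    exact mul_comm _ _

/-- A finite normalisation map is an isomorphism over a nonempty open. -/
theorem exists_isIso_normalizationι (Z : Scheme.{u}) [IsIntegral Z]
    [QuasiCompact (Z.fromSpecStalk (genericPoint Z))] [QuasiSeparated (Z.fromSpecStalk (genericPoint Z))]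
    [IsFinite (Curv2.normalizationι Z)] :
    ∃ W : Z.Opens, (W : Set Z).Nonempty ∧ IsIso (Curv2.normalizationι Z ∣_ W) := by
  show ∃ W : Z.Opens, (W : Set Z).Nonempty ∧
    IsIso ((Z.fromSpecStalk (genericPoint Z)).fromNormalization ∣_ W)
  haveI : IsFinite (Z.fromSpecStalk (genericPoint Z)).fromNormalization :=
    ‹IsFinite (Curv2.normalizationι Z)›
  obtain ⟨_, ⟨U, hU, rfl⟩, hηU, -⟩ :=
    Z.isBasis_affineOpens.exists_subset_of_mem_open (Set.mem_univ (genericPoint Z)) isOpen_univ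
  haveI : Nonempty U := ⟨⟨_, hηU⟩⟩
  let f := Z.fromSpecStalk (genericPoint Z)
  let K := Γ(Spec (Z.presheaf.stalk (genericPoint Z)), f ⁻¹ᵁ U)
  let τ := f.toNormalization
  have hle : f ⁻¹ᵁ U ≤ τ ⁻¹ᵁ ((Z.fromSpecStalk (genericPoint Z)).fromNormalization ⁻¹ᵁ U) := by
    rw [← Scheme.Hom.comp_preimage]
    exact le_of_eq (by rw [show τ ≫ (Z.fromSpecStalk (genericPoint Z)).fromNormalization = f from
      f.toNormalization_fromNormalization])
  let κ : Γ((Z.fromSpecStalk (genericPoint Z)).normalization, (Z.fromSpecStalk (genericPoint Z)).fromNormalization ⁻¹ᵁ U) →+* K := (τ.appLE _ _ hle).hom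
  have hκ : Function.Injective κ := by
    letI := (f.app U).hom.toAlgebra
    have h := f.normalizationObjIso_hom_val hU
    have hinj : Function.Injective ((f.normalizationObjIso hU).hom ≫
        CommRingCat.ofHom (Subalgebra.val _).toRingHom).hom := by
      rw [CommRingCat.hom_comp, RingHom.coe_comp]
      exact Subtype.val_injective.comp
        (ConcreteCategory.bijective_of_isIso (f.normalizationObjIso hU).hom).1
    rw [h] at hinj
    exact hinj
  haveI : IsFractionRing Γ(Z, U) Z.functionField := functionField_isFractionRing_of_isAffineOpen Z U hU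
  have htop : f ⁻¹ᵁ U = ⊤ := by
    refine TopologicalSpace.Opens.ext (Set.eq_univ_of_forall fun p => ?_)
    haveI : Subsingleton (Spec (Z.presheaf.stalk (genericPoint Z))) :=
      inferInstanceAs (Subsingleton (PrimeSpectrum (Z.functionField)))
    show f p ∈ U
    rw [Subsingleton.elim p (IsLocalRing.closedPoint _)]
    show Z.fromSpecStalk (genericPoint Z) _ ∈ U
    rw [Scheme.fromSpecStalk_closedPoint]
    exact hηU
  let θ0 : Z.presheaf.stalk (genericPoint Z) ⟶
      Γ(Spec (Z.presheaf.stalk (genericPoint Z)), f ⁻¹ᵁ U) :=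
    (Scheme.ΓSpecIso _).inv ≫
      (Spec (Z.presheaf.stalk (genericPoint Z))).presheaf.map (homOfLE le_top).op
  have hiso : IsIso θ0 := by
    haveI : IsIso (homOfLE (le_top : f ⁻¹ᵁ U ≤ ⊤)) :=
      ⟨⟨eqToHom htop.symm, Subsingleton.elim _ _, Subsingleton.elim _ _⟩⟩
    infer_instance
  have hfapp : f.app U = Z.presheaf.germ U _ hηU ≫ θ0 := Scheme.fromSpecStalk_app hηU
  refine exists_isIso_morphismRestrict_of_denominators ((Z.fromSpecStalk (genericPoint Z)).fromNormalization) hU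
    (f.app U).hom κ hκ ?_ (fun a => ?_) (fun k => ?_)
  · rw [hfapp, CommRingCat.hom_comp, RingHom.coe_comp]
    exact (ConcreteCategory.bijective_of_isIso θ0).1.comp
      (germ_injective_of_isIntegral Z _ hηU)
  · show (((Z.fromSpecStalk (genericPoint Z)).fromNormalization).app U ≫ τ.appLE _ _ hle).hom a = (f.app U).hom a
    rw [Scheme.Hom.app_eq_appLE, Scheme.Hom.appLE_comp_appLE, Scheme.Hom.app_eq_appLE]
    congr 3
    exact f.toNormalization_fromNormalization
  · obtain ⟨q, hq⟩ := (ConcreteCategory.bijective_of_isIso θ0).2 k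
    obtain ⟨a, s, hs, hqs⟩ := IsFractionRing.div_surjective (A := Γ(Z, U)) (q : Z.functionField)
    have hs0 : s ≠ 0 := nonZeroDivisors.ne_zero hs
    refine ⟨s, a, hs0, ?_⟩
    rw [hfapp, ← hq]
    show θ0.hom q * θ0.hom (Z.presheaf.germ U _ hηU s) = θ0.hom (Z.presheaf.germ U _ hηU a)
    rw [← map_mul, ← hqs]
    congr 1
    have : (algebraMap Γ(Z, U) Z.functionField s) ≠ 0 :=
      IsFractionRing.to_map_ne_zero_of_mem_nonZeroDivisors hs
    exact div_mul_cancel₀ _ this

end Groth.L22.BM
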