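import Groth.Prelude.Def_BMCoh2
import Groth.Agent.L18.KerReduced
import Mathlib.Topology.KrullDimension
import Mathlib.Topology.Sober

/-!
Dimension theory of the objects of a constructible class: the dimension of the closure of a point is
finite, strictly monotone for specialisation and invariant under immersions.
-/

universe u

open AlgebraicGeometry CategoryTheory Topology BMCoh

namespace Groth.L22.BM

section Top

variable {T S S' : Type u} [TopologicalSpace T] [TopologicalSpace S] [TopologicalSpace S']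

theorem natDim_congr (e : S ≃ₜ S') : WeilCoh.natDim S = WeilCoh.natDim S' := by
  unfold WeilCoh.natDim
  rw [IsHomeomorph.topologicalKrullDim_eq _ e.isHomeomorph]

theorem natDim_eq_of_range_eq {g : S → T} {g' : S' → T} (hg : IsEmbedding g) (hg' : IsEmbedding g')
    (h : Set.range g = Set.range g') : WeilCoh.natDim S = WeilCoh.natDim S' :=
  natDim_congr ((hg.toHomeomorph.trans (Homeomorph.setCongr h)).trans hg'.toHomeomorph.symm)

theorem natDim_eq_of_range_eq_set {g : S → T} (hg : IsEmbedding g) {C : Set T}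
    (h : Set.range g = C) : WeilCoh.natDim S = WeilCoh.natDim C :=
  natDim_eq_of_range_eq hg IsEmbedding.subtypeVal (h.trans Subtype.range_coe.symm)

variable [QuasiSober T] [T0Space T]

attribute [local instance] specializationOrder

theorem topologicalKrullDim_eq_krullDim (T : Type u) [TopologicalSpace T] [QuasiSober T]
    [T0Space T] : topologicalKrullDim T = Order.krullDim T :=
  Order.krullDim_eq_of_orderIso (irreducibleSetEquivPoints (α := T))

theorem topologicalKrullDim_closure (x : T) :
    topologicalKrullDim (closure ({x} : Set T)) = (Order.height x : WithBot ℕ∞) := by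
  haveI : QuasiSober (closure ({x} : Set T)) :=
    (isClosed_closure.isClosedEmbedding_subtypeVal).quasiSober
  rw [topologicalKrullDim_eq_krullDim, Order.height_eq_krullDim_Iic]
  refine @Order.krullDim_eq_of_orderIso _ _ (specializationOrder _).toPreorder _
    { toEquiv := Equiv.setCongr (Set.ext fun y => specializes_iff_mem_closure.symm)
      map_rel_iff' := fun {a b} => ?_ }
  exact subtype_specializes_iff (x := b) (y := a) |>.symm

end Top

variable {V : ObjectProperty Scheme.{u}} [IsConstructible V] (X : Obj V)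

section Point

attribute [local instance] specializationOrder

theorem height_lt_top (x : X.scheme) : Order.height x < ⊤ := by
  have h1 := topologicalKrullDim_subspace_le X.scheme (closure ({x} : Set X.scheme))
  rw [topologicalKrullDim_closure] at h1
  exact WithBot.coe_lt_coe.mp (lt_of_le_of_lt h1 (IsConstructible.finiteDim X.mem))

theorem coe_pdim (x : X.scheme) : (WeilCoh.pdim X.scheme x : ℕ∞) = Order.height x := by
  rw [WeilCoh.pdim, WeilCoh.natDim, topologicalKrullDim_closure, WithBot.unbotD_coe,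
    ENat.coe_toNat (height_lt_top X x).ne]

theorem pdim_lt_of_specializes {x y : X.scheme} (h : x ⤳ y) (hne : x ≠ y) :
    WeilCoh.pdim X.scheme y < WeilCoh.pdim X.scheme x := by
  have := Order.height_strictMono (lt_of_le_of_ne (show y ≤ x from h) (Ne.symm hne))
    (height_lt_top X y)
  rw [← coe_pdim, ← coe_pdim] at this
  exact_mod_cast this

theorem pdim_le_of_specializes {x y : X.scheme} (h : x ⤳ y) :
    WeilCoh.pdim X.scheme y ≤ WeilCoh.pdim X.scheme x := by
  rcases eq_or_ne x y with rfl | hne
  · exact le_rfl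
  · exact (pdim_lt_of_specializes X h hne).le

theorem eq_of_specializes_of_pdim_le {x y : X.scheme} (h : x ⤳ y)
    (hle : WeilCoh.pdim X.scheme x ≤ WeilCoh.pdim X.scheme y) : x = y := by
  by_contra hne
  exact absurd (pdim_lt_of_specializes X h hne) (not_lt.mpr hle)

theorem exists_specializes_pdim_eq (x : X.scheme) {n : ℕ} (hn : n ≤ WeilCoh.pdim X.scheme x) :
    ∃ y, x ⤳ y ∧ WeilCoh.pdim X.scheme y = n := by
  rcases eq_or_lt_of_le hn with rfl | hlt
  · exact ⟨x, specializes_rfl, rfl⟩
  have h : (n : ℕ∞) < Order.height x := by rw [← coe_pdim]; exact_mod_cast hlt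
  obtain ⟨y, hy, hyn⟩ := (Order.coe_lt_height_iff (height_lt_top X x)).mp h
  rw [← coe_pdim] at hyn
  exact ⟨y, (show y ≤ x from hy.le), by exact_mod_cast hyn⟩

theorem pdim_le_dim (x : X.scheme) : WeilCoh.pdim X.scheme x ≤ WeilCoh.dim X.scheme := by
  have h1 : Order.height x ≤ (Order.krullDim X.scheme).unbotD 0 := by
    have h := Order.height_le_krullDim x
    revert h
    cases hk : Order.krullDim X.scheme with
    | bot => intro h; exact absurd h (by simp)
    | coe a => intro h; simpa using WithBot.coe_le_coe.mp h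
  rw [WeilCoh.dim, WeilCoh.natDim, topologicalKrullDim_eq_krullDim]
  refine ENat.coe_le_coe.mp ((coe_pdim X x).le.trans (h1.trans ?_))
  rw [ENat.coe_toNat]
  have hf := IsConstructible.finiteDim X.mem
  rw [topologicalKrullDim_eq_krullDim] at hf
  cases hk : Order.krullDim X.scheme with
  | bot => simp
  | coe a => rw [hk] at hf; exact (WithBot.coe_lt_coe.mp hf).ne

theorem exists_pdim_eq_dim [hX : Nonempty X.scheme] :
    ∃ x, WeilCoh.pdim X.scheme x = WeilCoh.dim X.scheme := by
  by_contra h
  push Not at h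
  have hlt : ∀ x, WeilCoh.pdim X.scheme x < WeilCoh.dim X.scheme := fun x =>
    lt_of_le_of_ne (pdim_le_dim X x) (h x)
  obtain ⟨x₀⟩ := hX
  have hpos : 0 < WeilCoh.dim X.scheme := lt_of_le_of_lt (Nat.zero_le _) (hlt x₀)
  have hle : Order.krullDim X.scheme ≤
      (((WeilCoh.dim X.scheme - 1 : ℕ) : ℕ∞) : WithBot ℕ∞) := by
    rw [Order.krullDim_eq_iSup_height]
    refine iSup_le fun x => ?_
    rw [← coe_pdim]
    exact WithBot.coe_le_coe.mpr (Nat.cast_le.mpr (Nat.le_sub_one_of_lt (hlt x)))
  have hd : WeilCoh.dim X.scheme ≤ WeilCoh.dim X.scheme - 1 := by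
    conv_lhs => rw [WeilCoh.dim, WeilCoh.natDim, topologicalKrullDim_eq_krullDim]
    revert hle
    cases hk : Order.krullDim X.scheme with
    | bot => simp
    | coe a =>
      intro hle
      have := ENat.toNat_le_toNat (WithBot.coe_le_coe.mp hle) (ENat.natCast_ne_top _)
      simpa only [WithBot.unbotD_coe, ENat.toNat_natCast] using this
  omega

theorem dim_eq_zero_of_isEmpty [IsEmpty X.scheme] : WeilCoh.dim X.scheme = 0 := by
  rw [WeilCoh.dim, WeilCoh.natDim, topologicalKrullDim_eq_krullDim, Order.krullDim_eq_bot]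
  rfl

end Point

theorem codim_mono {x y : X.scheme} (h : x ⤳ y) :
    WeilCoh.codim X.scheme x ≤ WeilCoh.codim X.scheme y :=
  Nat.sub_le_sub_left (pdim_le_of_specializes X h) _

theorem codim_lt_of_specializes {x y : X.scheme} (h : x ⤳ y) (hne : x ≠ y) :
    WeilCoh.codim X.scheme x < WeilCoh.codim X.scheme y := by
  have h1 := pdim_lt_of_specializes X h hne
  have h2 := pdim_le_dim X x
  unfold WeilCoh.codim
  omega

theorem eq_of_specializes_of_codim_le {x y : X.scheme} (h : x ⤳ y)
    (hle : WeilCoh.codim X.scheme y ≤ WeilCoh.codim X.scheme x) : x = y := by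
  by_contra hne
  exact absurd (codim_lt_of_specializes X h hne) (not_lt.mpr hle)

theorem pdim_add_codim (x : X.scheme) :
    WeilCoh.pdim X.scheme x + WeilCoh.codim X.scheme x = WeilCoh.dim X.scheme :=
  Nat.add_sub_of_le (pdim_le_dim X x)

theorem exists_codim_eq_zero [Nonempty X.scheme] : ∃ x, WeilCoh.codim X.scheme x = 0 := by
  obtain ⟨x, hx⟩ := exists_pdim_eq_dim X
  exact ⟨x, by simp [WeilCoh.codim, hx]⟩

theorem range_ptSubι (x : X.scheme) : Set.range (X.ptSubι x) = closure ({x} : Set X.scheme) := by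
  rw [Scheme.IdealSheafData.range_subschemeι, Groth.L18.support_vanishingIdeal]
  rfl

instance irreducibleSpace_ptSub (x : X.scheme) : IrreducibleSpace (X.ptSub x).scheme := by
  have hirr : IsIrreducible (closure ({x} : Set X.scheme)) := isIrreducible_singleton.closure
  haveI := IrreducibleSpace.mk (X := closure ({x} : Set X.scheme))
    (toPreirreducibleSpace := Subtype.preirreducibleSpace hirr.isPreirreducible)
    hirr.nonempty.to_subtype
  let e : (X.ptSub x).scheme ≃ₜ closure ({x} : Set X.scheme) :=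
    (X.ptSubι x).isClosedEmbedding.isEmbedding.toHomeomorph.trans
      (Homeomorph.setCongr (range_ptSubι X x))
  have hu : IsIrreducible (Set.univ : Set (X.ptSub x).scheme) := by
    rw [← Set.image_univ_of_surjective e.symm.surjective]
    exact (irreducibleSpace_def _).mp inferInstance |>.image _ e.symm.continuous.continuousOn
  exact (irreducibleSpace_def _).mpr hu

theorem dim_ptSub (x : X.scheme) : WeilCoh.dim (X.ptSub x).scheme = WeilCoh.pdim X.scheme x :=
  natDim_eq_of_range_eq_set (X.ptSubι x).isClosedEmbedding.isEmbedding (range_ptSubι X x)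

variable {X} {Y : Obj V}

theorem pdim_of_isClosedImmersion (f : Y.scheme ⟶ X.scheme) [IsClosedImmersion f] (y : Y.scheme) :
    WeilCoh.pdim X.scheme (f y) = WeilCoh.pdim Y.scheme y := by
  refine (natDim_eq_of_range_eq_set (f.isClosedEmbedding.isEmbedding.comp IsEmbedding.subtypeVal)
    ?_).symm
  rw [Set.range_comp, Subtype.range_coe, ← f.isClosedEmbedding.closure_image_eq, Set.image_singleton]

theorem pdim_of_isOpenImmersion (f : Y.scheme ⟶ X.scheme) [IsOpenImmersion f] (y : Y.scheme) :
    WeilCoh.pdim X.scheme (f y) = WeilCoh.pdim Y.scheme y := by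
  let P := X.ptSub (f y)
  let ι := X.ptSubι (f y)
  let W : P.scheme.Opens := ι ⁻¹ᵁ f.opensRange
  have hy : f y ∈ Set.range ι := by
    rw [range_ptSubι]; exact subset_closure rfl
  obtain ⟨p, hp⟩ := hy
  have hW : (W : Set P.scheme).Nonempty := ⟨p, by
    show ι p ∈ Set.range f
    rw [hp]; exact ⟨y, rfl⟩⟩
  have hdim := IsConstructible.dim_open P.mem (irreducibleSpace_ptSub X (f y)) W hW
  rw [← dim_ptSub X (f y), ← hdim]
  refine natDim_eq_of_range_eq (ι.isClosedEmbedding.isEmbedding.comp W.ι.isOpenEmbedding.isEmbedding)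
    (f.isOpenEmbedding.isEmbedding.comp IsEmbedding.subtypeVal) ?_
  rw [Set.range_comp, Scheme.Opens.range_ι, Set.range_comp, Subtype.range_coe]
  show ι '' (ι ⁻¹' Set.range f) = _
  rw [Set.image_preimage_eq_inter_range, range_ptSubι]
  ext z
  constructor
  · rintro ⟨⟨u, rfl⟩, hu⟩
    refine ⟨u, ?_, rfl⟩
    rw [← specializes_iff_mem_closure] at hu ⊢
    exact f.isOpenEmbedding.isInducing.specializes_iff.mp hu
  · rintro ⟨u, hu, rfl⟩
    exact ⟨⟨u, rfl⟩, specializes_iff_mem_closure.mp
      ((specializes_iff_mem_closure.mpr hu).map f.continuous)⟩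

/-- Dimension as the supremum of the dimensions of the closures of points of the image. -/
theorem dim_eq_of_pdim (f : Y.scheme ⟶ X.scheme)
    (hf : ∀ y, WeilCoh.pdim X.scheme (f y) = WeilCoh.pdim Y.scheme y) {n : ℕ}
    (hle : ∀ y, WeilCoh.pdim X.scheme (f y) ≤ n) (hex : ∃ y, WeilCoh.pdim X.scheme (f y) = n) :
    WeilCoh.dim Y.scheme = n := by
  obtain ⟨y, hy⟩ := hex
  haveI : Nonempty Y.scheme := ⟨y⟩
  obtain ⟨z, hz⟩ := exists_pdim_eq_dim Y
  have := pdim_le_dim Y y
  have := hle z
  have := hf z
  have := hf y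
  omega

theorem pdim_hom {U : Obj V} (f : U ⟶ X) (u : U.scheme) :
    WeilCoh.pdim X.scheme (f.hom u) = WeilCoh.pdim U.scheme u :=
  pdim_of_isOpenImmersion f.hom u

theorem codim_hom {U : Obj V} (f : U ⟶ X) (u : U.scheme) :
    WeilCoh.codim X.scheme (f.hom u) = WeilCoh.codim U.scheme u := by
  rw [WeilCoh.codim, WeilCoh.codim, pdim_hom, f.dim_eq]

theorem pdim_res (U : X.scheme.Opens) (u : (X.res U).scheme) :
    WeilCoh.pdim X.scheme (U.ι u) = WeilCoh.pdim (X.res U).scheme u :=
  pdim_of_isOpenImmersion (Y := X.res U) U.ι u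

theorem dim_res_le (U : X.scheme.Opens) :
    WeilCoh.dim (U : Scheme.{u}) ≤ WeilCoh.dim X.scheme := by
  rcases isEmpty_or_nonempty (X.res U).scheme with h | h
  · exact (dim_eq_zero_of_isEmpty (X.res U)).le.trans (Nat.zero_le _)
  · obtain ⟨u, hu⟩ := exists_pdim_eq_dim (X.res U)
    exact hu ▸ pdim_res U u ▸ pdim_le_dim X _

theorem dim_res_eq_of_mem {U : X.scheme.Opens} {x : X.scheme} (hx : x ∈ U)
    (hd : WeilCoh.codim X.scheme x = 0) : WeilCoh.dim (U : Scheme.{u}) = WeilCoh.dim X.scheme := by
  refine le_antisymm (dim_res_le U) ?_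
  have h1 := pdim_add_codim X x
  have h2 := pdim_le_dim (X.res U) ⟨x, hx⟩
  rw [← pdim_res U ⟨x, hx⟩] at h2
  have h3 : U.ι (⟨x, hx⟩ : U) = x := rfl
  rw [h3] at h2
  simp only [Obj.res_scheme] at h2
  omega

theorem dim_res_of_containsFj {j : ℕ} {U : X.scheme.Opens} (h : ContainsFj X j U) :
    WeilCoh.dim (U : Scheme.{u}) = WeilCoh.dim X.scheme := by
  rcases isEmpty_or_nonempty X.scheme with he | he
  · have : IsEmpty (X.res U).scheme := ⟨fun u => he.false (U.ι u)⟩
    exact (dim_eq_zero_of_isEmpty (X.res U)).trans (dim_eq_zero_of_isEmpty X).symm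
  · obtain ⟨x, hx⟩ := exists_codim_eq_zero X
    exact dim_res_eq_of_mem (h x (hx ▸ Nat.zero_le j)) hx

/-- The index of an open containing `F_j`. -/
def idx (j : ℕ) (U : X.scheme.Opens) (h : ContainsFj X j U) : Idx X (ContainsFj X j) :=
  ⟨U, h, dim_res_of_containsFj h⟩

/-- The index of a nonempty open of the closure of a point. -/
def ptIdxMk (x : X.scheme) (W : (X.ptSub x).scheme.Opens) (h : (W : Set (X.ptSub x).scheme).Nonempty) :
    Idx (X.ptSub x) (fun U => (U : Set (X.ptSub x).scheme).Nonempty) :=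
  ⟨W, h, IsConstructible.dim_open (X.ptSub x).mem (irreducibleSpace_ptSub X x) W h⟩

end Groth.L22.BM
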