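import Groth.Agent.L22.BM.Dim

/-!
Morphisms of objects of a constructible class, and the elementary consequences of the axioms of a
pre-theory: functoriality of pull-back and push-forward, the Gysin sequences elementwise, vanishing
on the empty object, additivity over two complementary open pieces.
-/

universe u

open AlgebraicGeometry CategoryTheory Opposite BMCoh

namespace Groth.L22.BM

variable {V : ObjectProperty Scheme.{u}}

section Hom

variable {X Y W : Obj V}

theorem hom_ext_mono {f g : W ⟶ Y} {S : Scheme.{u}} (e : Y.scheme ⟶ S) [Mono e]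
    (h : f.hom ≫ e = g.hom ≫ e) : f = g :=
  Hom.ext ((cancel_mono e).mp h)

theorem hom_ext_over {f g : W ⟶ Y} (e : Y ⟶ X) (h : f ≫ e = g ≫ e) : f = g :=
  hom_ext_mono e.hom (by rw [← comp_hom, ← comp_hom, h])

/-- A morphism into `X` with image inside that of another factors through it. -/
noncomputable def homLift (f : W ⟶ X) (e : Y ⟶ X) (h : Set.range f.hom ⊆ Set.range e.hom) :
    W ⟶ Y where
  hom := IsOpenImmersion.lift e.hom f.hom h
  isOpenImmersion := by
    haveI : IsOpenImmersion (IsOpenImmersion.lift e.hom f.hom h ≫ e.hom) := by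
      rw [IsOpenImmersion.lift_fac]; infer_instance
    exact IsOpenImmersion.of_comp (IsOpenImmersion.lift e.hom f.hom h) e.hom
  dim_eq := f.dim_eq.trans e.dim_eq.symm

@[reassoc (attr := simp)]
theorem homLift_comp (f : W ⟶ X) (e : Y ⟶ X) (h : Set.range f.hom ⊆ Set.range e.hom) :
    homLift f e h ≫ e = f :=
  Hom.ext (IsOpenImmersion.lift_fac _ _ _)

theorem isIso_of_isIso_hom (f : X ⟶ Y) [IsIso f.hom] : IsIso f :=
  ⟨⟨inv f.hom, inferInstance, f.dim_eq.symm⟩, Hom.ext (IsIso.hom_inv_id f.hom),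
    Hom.ext (IsIso.inv_hom_id f.hom)⟩

theorem dim_res_opensRange [IsConstructible V] (f : Y ⟶ X) :
    WeilCoh.dim (f.hom.opensRange : Scheme.{u}) = WeilCoh.dim X.scheme :=
  (dim_eq_of_iso f.hom.isoOpensRange).symm.trans f.dim_eq

theorem isPullback_of_range {S T S' T' : Scheme.{u}} (f : S ⟶ T) (f' : S' ⟶ T') (k : T' ⟶ T)
    (k' : S' ⟶ S) [IsOpenImmersion k] [IsOpenImmersion k'] (H : k' ≫ f = f' ≫ k)
    (H' : Set.range k' = f ⁻¹' Set.range k) : IsPullback k' f' f k :=
  (IsOpenImmersion.isPullback f' k' k f H (TopologicalSpace.Opens.ext H'.symm)).flip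

end Hom

theorem relCodim_eq {S T : Scheme.{u}} {c : ℕ} (h : WeilCoh.dim S + c = WeilCoh.dim T) :
    relCodim S T = c := by
  unfold relCodim; omega

theorem relCodim_eq_zero {S T : Scheme.{u}} (h : WeilCoh.dim S = WeilCoh.dim T) :
    relCodim S T = 0 := by
  unfold relCodim; omega

theorem relCodim_self (S : Scheme.{u}) : relCodim S S = 0 := relCodim_eq_zero rfl

variable [IsConstructible V] {R : Type u} [CommRing R] {A : Coefs R} (T : PreTheory V R A)
variable {X Y Z : Obj V} {M : A.Cat} {i n i' n' i'' n'' : ℤ}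

theorem pull_id : T.pull (𝟙 X) M i n = 𝟙 _ := by
  simp [PreTheory.pull]

theorem pull_comp (f : X ⟶ Y) (g : Y ⟶ Z) :
    T.pull (f ≫ g) M i n = T.pull g M i n ≫ T.pull f M i n := by
  simp [PreTheory.pull]

theorem pull_pull (f : X ⟶ Y) (g : Y ⟶ Z) (a : T.gp Z M i n) :
    (T.pull f M i n).hom ((T.pull g M i n).hom a) = (T.pull (f ≫ g) M i n).hom a := by
  rw [pull_comp]; rfl

theorem pull_id_apply (a : T.gp X M i n) : (T.pull (𝟙 X) M i n).hom a = a := by
  rw [pull_id]; rfl

theorem pull_bijective (f : X ⟶ Y) [IsIso f.hom] : Function.Bijective (T.pull f M i n).hom := by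
  haveI := isIso_of_isIso_hom f
  refine Function.bijective_iff_has_inverse.mpr ⟨(T.pull (inv f) M i n).hom, fun a => ?_, fun a => ?_⟩
  · rw [pull_pull, IsIso.inv_hom_id, pull_id_apply]
  · rw [pull_pull, IsIso.hom_inv_id, pull_id_apply]

theorem push_congr {f f' : X.scheme ⟶ Y.scheme} (h : f = f') [IsProper f] [IsProper f']
    (hi : i' = i + 2 * relCodim X.scheme Y.scheme) (hn : n' = n + relCodim X.scheme Y.scheme) :
    T.push f M i n i' n' hi hn = T.push f' M i n i' n' hi hn := by
  subst h; rfl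

theorem push_id_apply (hi : i = i + 2 * relCodim X.scheme X.scheme)
    (hn : n = n + relCodim X.scheme X.scheme) (a : T.gp X M i n) :
    (T.push (𝟙 X.scheme) M i n i n hi hn).hom a = a := by
  rw [T.push_id]; rfl

theorem push_push {f : X.scheme ⟶ Y.scheme} {g : Y.scheme ⟶ Z.scheme} {h : X.scheme ⟶ Z.scheme}
    [IsProper f] [IsProper g] [IsProper h] (e : f ≫ g = h)
    (hi : i' = i + 2 * relCodim X.scheme Y.scheme) (hn : n' = n + relCodim X.scheme Y.scheme)
    (hi' : i'' = i' + 2 * relCodim Y.scheme Z.scheme) (hn' : n'' = n' + relCodim Y.scheme Z.scheme)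
    (hi'' : i'' = i + 2 * relCodim X.scheme Z.scheme) (hn'' : n'' = n + relCodim X.scheme Z.scheme)
    (a : T.gp X M i n) :
    (T.push g M i' n' i'' n'' hi' hn').hom ((T.push f M i n i' n' hi hn).hom a) =
      (T.push h M i n i'' n'' hi'' hn'').hom a := by
  subst e
  rw [← T.push_comp f g M i n i' n' i'' n'' hi hn hi' hn' hi'' hn'']; rfl

theorem push_pull_apply {X' Y' : Obj V} (f : X.scheme ⟶ Y.scheme) [IsProper f]
    (f' : X'.scheme ⟶ Y'.scheme) [IsProper f'] (g : Y' ⟶ Y) (g' : X' ⟶ X)
    (H : g'.hom ≫ f = f' ≫ g.hom) (H' : Set.range g'.hom = f ⁻¹' Set.range g.hom)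
    (hi : i' = i + 2 * relCodim X.scheme Y.scheme) (hn : n' = n + relCodim X.scheme Y.scheme)
    (hi' : i' = i + 2 * relCodim X'.scheme Y'.scheme)
    (hn' : n' = n + relCodim X'.scheme Y'.scheme) (a : T.gp X M i n) :
    (T.pull g M i' n').hom ((T.push f M i n i' n' hi hn).hom a) =
      (T.push f' M i n i' n' hi' hn').hom ((T.pull g' M i n).hom a) :=
  DFunLike.congr_fun (congrArg ModuleCat.Hom.hom
    (T.push_pull f f' g g' (isPullback_of_range f f' g.hom g'.hom H H') M i n i' n' hi hn hi' hn')) a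

section Gysin

variable {T} (D : Decomp X)

theorem res_pull_eq_zero (hi : i' = i + 1 - 2 * D.codim) (hn : n' = n - D.codim) (a : T.gp X M i n) :
    (T.res D M i n i' n' hi hn).hom ((T.pull D.j M i n).hom a) = 0 :=
  (T.exact_pull_res D M i n i' n' hi hn).apply_apply_eq_zero a

theorem exists_pull_eq (hi : i' = i + 1 - 2 * D.codim) (hn : n' = n - D.codim) {b : T.gp D.U M i n}
    (hb : (T.res D M i n i' n' hi hn).hom b = 0) : ∃ a, (T.pull D.j M i n).hom a = b :=
  (T.exact_pull_res D M i n i' n' hi hn b).mp hb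

theorem push_res_eq_zero (hi : i' = i + 1 - 2 * D.codim) (hn : n' = n - D.codim)
    (hk : i'' = i + 1) (hi' : i'' = i' + 2 * relCodim D.Z.scheme X.scheme)
    (hn' : n = n' + relCodim D.Z.scheme X.scheme) (b : T.gp D.U M i n) :
    (T.push D.i M i' n' i'' n hi' hn').hom ((T.res D M i n i' n' hi hn).hom b) = 0 := by
  subst hk
  exact (T.exact_res_push D M i n i' n' hi hn hi' hn').apply_apply_eq_zero b

theorem exists_res_eq (hi : i' = i + 1 - 2 * D.codim) (hn : n' = n - D.codim)
    (hk : i'' = i + 1) (hi' : i'' = i' + 2 * relCodim D.Z.scheme X.scheme)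
    (hn' : n = n' + relCodim D.Z.scheme X.scheme) {z : T.gp D.Z M i' n'}
    (hz : (T.push D.i M i' n' i'' n hi' hn').hom z = 0) :
    ∃ b, (T.res D M i n i' n' hi hn).hom b = z := by
  subst hk
  exact (T.exact_res_push D M i n i' n' hi hn hi' hn' z).mp hz

theorem pull_push_eq_zero (hi' : i = i' + 2 * relCodim D.Z.scheme X.scheme)
    (hn' : n = n' + relCodim D.Z.scheme X.scheme) (z : T.gp D.Z M i' n') :
    (T.pull D.j M i n).hom ((T.push D.i M i' n' i n hi' hn').hom z) = 0 := by
  obtain ⟨k, rfl⟩ : ∃ k, i = k + 1 := ⟨i - 1, by omega⟩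
  exact (T.exact_push_pull D M k n i' n' hi' hn').apply_apply_eq_zero z

theorem exists_push_eq (hi' : i = i' + 2 * relCodim D.Z.scheme X.scheme)
    (hn' : n = n' + relCodim D.Z.scheme X.scheme) {a : T.gp X M i n}
    (ha : (T.pull D.j M i n).hom a = 0) : ∃ z, (T.push D.i M i' n' i n hi' hn').hom z = a := by
  obtain ⟨k, rfl⟩ : ∃ k, i = k + 1 := ⟨i - 1, by omega⟩
  exact (T.exact_push_pull D M k n i' n' hi' hn' a).mp ha

theorem res_pull_apply {X' : Obj V} (D' : Decomp X') (g : X' ⟶ X) (gZ : D'.Z ⟶ D.Z)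
    (gU : D'.U ⟶ D.U) (hZ : gZ.hom ≫ D.i = D'.i ≫ g.hom) (hU : gU ≫ D.j = D'.j ≫ g)
    (hi : i' = i + 1 - 2 * D.codim) (hn : n' = n - D.codim)
    (hi' : i' = i + 1 - 2 * D'.codim) (hn' : n' = n - D'.codim) (b : T.gp D.U M i n) :
    (T.pull gZ M i' n').hom ((T.res D M i n i' n' hi hn).hom b) =
      (T.res D' M i n i' n' hi' hn').hom ((T.pull gU M i n).hom b) :=
  DFunLike.congr_fun (congrArg ModuleCat.Hom.hom
    (T.res_pull D D' g gZ gU hZ hU M i n i' n' hi hn hi' hn')) b

end Gysin

/-- The groups of an empty object vanish. -/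
theorem eq_zero_of_isEmpty [IsEmpty X.scheme] (a : T.gp X M i n) : a = 0 := by
  let D : Decomp X :=
    { Z := X
      U := X
      i := 𝟙 X.scheme
      closedImm := inferInstance
      j := 𝟙 X
      range_eq := Set.ext fun x => isEmptyElim x }
  have h1 : relCodim X.scheme X.scheme = 0 := relCodim_self _
  have hi : i = i + 2 * relCodim X.scheme X.scheme := by rw [h1]; ring
  have hn : n = n + relCodim X.scheme X.scheme := by rw [h1]; ring
  have := pull_push_eq_zero (T := T) D (i := i) (n := n) (i' := i) (n' := n) hi hn a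
  simp only [D] at this
  rwa [push_id_apply, pull_id_apply] at this

section Complement

variable {T} {W : Obj V} (eX : X ⟶ W) (eY : Y ⟶ W)

theorem isClosedImmersion_of_complement (h : Set.range eX.hom = (Set.range eY.hom)ᶜ) :
    IsClosedImmersion eX.hom :=
  IsClosedImmersion.of_isPreimmersion _ (h ▸ eY.hom.isOpenEmbedding.isOpen_range.isClosed_compl)

theorem range_compl_symm (h : Set.range eX.hom = (Set.range eY.hom)ᶜ) :
    Set.range eY.hom = (Set.range eX.hom)ᶜ := by rw [h, compl_compl]

theorem shift_fst (f : X ⟶ W) (i : ℤ) : i = i + 2 * relCodim X.scheme W.scheme := by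
  rw [relCodim_eq_zero f.dim_eq]; simp

theorem shift_snd (f : X ⟶ W) (n : ℤ) : n = n + relCodim X.scheme W.scheme := by
  rw [relCodim_eq_zero f.dim_eq]; simp

/-- Restricting the push-forward along an open and closed piece to that piece is the identity. -/
theorem pull_push_self (f : X ⟶ W) [IsClosedImmersion f.hom] (a : T.gp X M i n) :
    (T.pull f M i n).hom
      ((T.push f.hom M i n i n (shift_fst f i) (shift_snd f n)).hom a) = a := by
  rw [push_pull_apply T f.hom (𝟙 X.scheme) f (𝟙 X) rfl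
    (by rw [Set.preimage_range]; simp) _ _ (shift_fst (𝟙 X) i) (shift_snd (𝟙 X) n),
    pull_id_apply, push_id_apply]

theorem pull_push_other (h : Set.range eX.hom = (Set.range eY.hom)ᶜ) [IsClosedImmersion eX.hom]
    (a : T.gp X M i n) :
    (T.pull eY M i n).hom
      ((T.push eX.hom M i n i n (shift_fst eX i) (shift_snd eX n)).hom a) = 0 :=
  pull_push_eq_zero (T := T) ⟨X, Y, eX.hom, inferInstance, eY, range_compl_symm eX eY h⟩ _ _ a

theorem eq_zero_of_complement (h : Set.range eX.hom = (Set.range eY.hom)ᶜ) {a : T.gp W M i n}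
    (hx : (T.pull eX M i n).hom a = 0) (hy : (T.pull eY M i n).hom a = 0) : a = 0 := by
  haveI := isClosedImmersion_of_complement eX eY h
  obtain ⟨b, rfl⟩ := exists_push_eq (T := T)
    ⟨X, Y, eX.hom, inferInstance, eY, range_compl_symm eX eY h⟩
    (shift_fst eX i) (shift_snd eX n) hy
  rw [pull_push_self] at hx
  rw [hx, map_zero]

theorem bijective_complement (h : Set.range eX.hom = (Set.range eY.hom)ᶜ) :
    Function.Bijective
      (fun a : T.gp W M i n => ((T.pull eX M i n).hom a, (T.pull eY M i n).hom a)) := by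
  haveI := isClosedImmersion_of_complement eX eY h
  haveI := isClosedImmersion_of_complement eY eX (range_compl_symm eX eY h)
  refine ⟨fun a b hab => sub_eq_zero.mp ?_, fun p => ?_⟩
  · simp only [Prod.mk.injEq] at hab
    refine eq_zero_of_complement eX eY h ?_ ?_
    · rw [map_sub, hab.1, sub_self]
    · rw [map_sub, hab.2, sub_self]
  · refine ⟨(T.push eX.hom M i n i n (shift_fst eX i) (shift_snd eX n)).hom p.1 +
      (T.push eY.hom M i n i n (shift_fst eY i) (shift_snd eY n)).hom p.2, ?_⟩
    ext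
    · simp only [map_add, pull_push_self,
        pull_push_other eY eX (range_compl_symm eX eY h), add_zero]
    · simp only [map_add, pull_push_self, pull_push_other eX eY h, zero_add]

end Complement

end Groth.L22.BM
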