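import Groth.Agent.L22.BM.Level

/-!
Chunks: a decomposition of an open containing `F_{j+1}X` whose open part contains `F_jX` and whose
closed part is partitioned by pieces of the closures of the points of codimension `j + 1`.
The Gysin sequence of a chunk computes residues and push-forwards at these points.
-/

universe u

open AlgebraicGeometry CategoryTheory Opposite BMCoh TopologicalSpace

namespace Groth.L22.BM

variable {V : ObjectProperty Scheme.{u}} [IsConstructible V] {X : Obj V}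

theorem opensRange_comp_subset {A B C : Obj V} (f : A ⟶ B) (g : B ⟶ C) :
    Set.range (f ≫ g).hom ⊆ Set.range g.hom := by
  rintro _ ⟨a, rfl⟩
  exact ⟨f.hom a, rfl⟩

/-- Pieces of the closures of points of codimension `m` partitioning a reduced closed subobject. -/
theorem exists_pieces {m : ℕ} {Y Z : Obj V} (e : Y ⟶ X) [IsReduced Z.scheme]
    (i : Z.scheme ⟶ Y.scheme) [IsClosedImmersion i] (s : Finset (X.cdPt m))
    (hs : ∀ x ∈ s, x.1 ∈ e.hom.opensRange)
    (hlift : ∀ x : s, ∃ g : (pieceObj e x.1.1).scheme ⟶ Z.scheme, g ≫ i = pieceι e x.1.1)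
    (hpart : ∀ z, ∃! x : s, x.1.1 ⤳ e.hom (i z)) :
    ∃ g : ∀ x : s, pieceObj e x.1.1 ⟶ Z, IsPieces g ∧ ∀ x, (g x).hom ≫ i = pieceι e x.1.1 := by
  choose g hg using hlift
  have hci : ∀ x, IsClosedImmersion (g x) := fun x => by
    haveI : IsClosedImmersion (g x ≫ i) := by rw [hg x]; infer_instance
    exact IsClosedImmersion.of_comp_isClosedImmersion (g x) i
  have hrange : ∀ (x : s) (z : Z.scheme), z ∈ Set.range (g x) ↔ x.1.1 ⤳ e.hom (i z) := by
    intro x z
    rw [specializes_iff_mem_closure, ← Set.mem_preimage, ← range_pieceι]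
    constructor
    · rintro ⟨w, rfl⟩
      exact ⟨w, by rw [← hg x, Scheme.Hom.comp_apply]⟩
    · rintro ⟨w, hw⟩
      refine ⟨w, i.isClosedEmbedding.injective ?_⟩
      rw [← Scheme.Hom.comp_apply, hg x, hw]
  have hopen : ∀ x, IsOpen (Set.range (g x)) := by
    intro x
    have : (Set.range (g x))ᶜ = ⋃ y : {y : s // y ≠ x}, Set.range (g y.1) := by
      ext z
      simp only [Set.mem_compl_iff, Set.mem_iUnion, hrange]
      constructor
      · intro hz
        obtain ⟨y, hy, -⟩ := hpart z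
        exact ⟨⟨y, fun h => hz (h ▸ hy)⟩, hy⟩
      · rintro ⟨⟨y, hne⟩, hy⟩ hx
        exact hne ((hpart z).unique hy hx)
    rw [← isClosed_compl_iff, this]
    exact isClosed_iUnion_of_finite fun y => ((hci y.1).base_closed.isClosed_range)
  have hdimW : ∀ x : s, WeilCoh.dim (pieceObj e x.1.1).scheme = WeilCoh.dim X.scheme - m := by
    intro x
    have h1 := pdim_add_codim X x.1.1
    rw [x.1.2] at h1
    rw [dim_piece (hs x.1 x.2)]
    omega
  have hdimZ : ∀ x : s, WeilCoh.dim (pieceObj e x.1.1).scheme = WeilCoh.dim Z.scheme := by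
    intro x
    haveI := hci x
    haveI : Nonempty (pieceObj e x.1.1).scheme := (nonempty_piece (hs x.1 x.2)).to_subtype
    obtain ⟨w, hw⟩ := exists_pdim_eq_dim (pieceObj e x.1.1)
    refine le_antisymm ?_ ?_
    · rw [← hw, ← pdim_of_isClosedImmersion (X := Z) (g x) w]
      exact pdim_le_dim Z _
    · haveI : Nonempty Z.scheme := ⟨g x w⟩
      obtain ⟨z, hz⟩ := exists_pdim_eq_dim Z
      obtain ⟨y, hy, -⟩ := hpart z
      obtain ⟨v, rfl⟩ := (hrange y z).mpr hy
      haveI := hci y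
      rw [← hz, pdim_of_isClosedImmersion (X := Z) (g y) v, hdimW x, ← hdimW y]
      exact pdim_le_dim _ v
  let G : ∀ x : s, pieceObj e x.1.1 ⟶ Z := fun x =>
    ⟨g x, by haveI := hci x; exact isOpenImmersion_of_isOpen_range (g x) (hopen x), hdimZ x⟩
  refine ⟨G, fun z => ?_, hg⟩
  obtain ⟨x, hx, hu⟩ := hpart z
  exact ⟨x, (hrange x z).mpr hx, fun y hy => hu y ((hrange y z).mp hy)⟩

/-- A chunk of `X` at level `j`. -/
structure Chunk (X : Obj V) (j : ℕ) : Type (u + 1) where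
  /-- The object over the open containing `F_{j+1}X`. -/
  Y : Obj V
  /-- Its map to `X`. -/
  e : Y ⟶ X
  hY : ContainsFj X (j + 1) e.hom.opensRange
  /-- The decomposition. -/
  D : Decomp Y
  hU : ContainsFj X j (D.j ≫ e).hom.opensRange
  /-- The points of codimension `j + 1` outside the open part. -/
  s : Finset (X.cdPt (j + 1))
  hs : ∀ x, x ∈ s ↔ x.1 ∉ (D.j ≫ e).hom.opensRange
  /-- The pieces. -/
  W : s → Obj V
  /-- The pieces as opens of the closures of the points. -/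
  k : ∀ x : s, W x ⟶ X.ptSub x.1.1
  hk : ∀ x : s, ((k x).hom.opensRange : Set (X.ptSub x.1.1).scheme).Nonempty
  /-- The pieces as opens of the closed part. -/
  g : ∀ x : s, W x ⟶ D.Z
  comm : ∀ x : s, (g x).hom ≫ D.i ≫ e.hom = (k x).hom ≫ X.ptSubι x.1.1
  pieces : IsPieces g

theorem exists_chunk {j : ℕ} {Y0 U0 : Obj V} (e0 : Y0 ⟶ X)
    (h0 : ContainsFj X (j + 1) e0.hom.opensRange) (u : U0 ⟶ X)
    (hu : ContainsFj X j u.hom.opensRange) (hsub : Set.range u.hom ⊆ Set.range e0.hom) :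
    ∃ C : Chunk X j, Set.range C.e.hom ⊆ Set.range e0.hom ∧
      Set.range (C.D.j ≫ C.e).hom = Set.range u.hom := by
  classical
  let S : Closeds X.scheme := ⟨(Set.range u.hom)ᶜ, u.hom.isOpenEmbedding.isOpen_range.isClosed_compl⟩
  have hS : ∀ y ∈ S, j + 1 ≤ WeilCoh.codim X.scheme y := fun y hy =>
    not_lt.mp fun h => hy (hu y (Nat.lt_succ_iff.mp h))
  obtain ⟨E, s, hs, hE, hpart⟩ := exists_level (j + 1) S hS
  let U1 : X.scheme.Opens := ⟨Set.range e0.hom ∩ (E : Set X.scheme)ᶜ,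
    e0.hom.isOpenEmbedding.isOpen_range.inter E.isClosed.isOpen_compl⟩
  have hU1 : ContainsFj X (j + 1) U1 := fun y hy =>
    ⟨h0 y hy, fun h => absurd hy (not_le.mpr (hE y h).2)⟩
  have huU : Set.range u.hom ⊆ (U1 : Set X.scheme) := fun y hy =>
    ⟨hsub hy, fun h => (hE y h).1 hy⟩
  let Y := X.res U1
  let e : Y ⟶ X := X.resι U1 (dim_res_of_containsFj hU1)
  have he : Set.range e.hom = (U1 : Set X.scheme) := Scheme.Opens.range_ι U1
  let C : Closeds Y.scheme := ⟨e.hom ⁻¹' (S : Set X.scheme), S.isClosed.preimage e.hom.continuous⟩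
  let j' : U0 ⟶ Y := homLift u e (huU.trans he.ge)
  have hj : j' ≫ e = u := homLift_comp _ _ _
  have hlift : ∀ x : s, ∃ g : (pieceObj e x.1.1).scheme ⟶ (redSub Y C).scheme,
      g ≫ redSubι Y C = pieceι e x.1.1 := by
    intro x
    refine ⟨redLift (pieceι e x.1.1) ?_, redLift_fac _ _⟩
    rw [range_pieceι]
    exact Set.preimage_mono
      (S.isClosed.closure_subset_iff.mpr (Set.singleton_subset_iff.mpr ((hs x.1).mp x.2)))
  have hmem : ∀ x ∈ s, x.1 ∈ e.hom.opensRange := fun x _ => by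
    show x.1 ∈ Set.range e.hom
    rw [he]; exact hU1 x.1 x.2.le
  obtain ⟨g, hg, hgc⟩ := exists_pieces e (redSubι Y C) s hmem hlift (fun z => by
    have hz : redSubι Y C z ∈ (C : Set Y.scheme) := range_redSubι Y C ▸ ⟨z, rfl⟩
    exact hpart _ hz (he ▸ Set.mem_range_self (f := e.hom) (redSubι Y C z) :
      e.hom (redSubι Y C z) ∈ (U1 : Set X.scheme)).2)
  let D : Decomp Y :=
    { Z := redSub Y C
      U := U0
      i := redSubι Y C
      closedImm := inferInstance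
      j := j'
      range_eq := by
        rw [range_redSubι]
        ext y
        show _ ↔ ¬ e.hom y ∉ Set.range u.hom
        rw [not_not, ← hj]
        simp only [comp_hom, Scheme.Hom.comp_apply, Set.mem_range]
        exact ⟨fun ⟨w, hw⟩ => ⟨w, hw ▸ rfl⟩,
          fun ⟨w, hw⟩ => ⟨w, e.hom.isOpenEmbedding.injective hw⟩⟩ }
  refine ⟨{ Y := Y
            e := e
            hY := fun y hy => show y ∈ Set.range e.hom from he ▸ hU1 y hy
            D := D
            hU := hj ▸ hu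
            s := s
            hs := fun x => by rw [hs]; show _ ↔ x.1 ∉ Set.range (j' ≫ e).hom; rw [hj]; rfl
            W := fun x => pieceObj e x.1.1
            k := fun x => pieceHom (hmem x.1 x.2)
            hk := fun x => nonempty_pieceHom (hmem x.1 x.2)
            g := g
            comm := fun x => by
              show (g x).hom ≫ redSubι Y C ≫ e.hom = _
              rw [← Category.assoc, hgc, pieceι_comp, pieceHom_hom]
            pieces := hg }, ?_, ?_⟩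
  · show Set.range e.hom ⊆ _
    rw [he]; exact Set.inter_subset_left
  · show Set.range (j' ≫ e).hom = _
    rw [hj]

namespace Chunk

variable {j : ℕ} (C : Chunk X j)

theorem dim_Y : WeilCoh.dim C.Y.scheme = WeilCoh.dim X.scheme := C.e.dim_eq

theorem dim_W (x : C.s) :
    WeilCoh.dim (C.W x).scheme + (j + 1) = WeilCoh.dim X.scheme := by
  rw [(C.k x).dim_eq, dim_ptSub]
  have := pdim_add_codim X x.1.1
  rw [x.1.2] at this
  exact this

theorem relCodim_W (x : C.s) : relCodim (C.W x).scheme C.Y.scheme = (j : ℤ) + 1 := by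
  have := C.dim_W x
  have := C.dim_Y
  rw [relCodim_eq (c := j + 1) (by omega)]
  simp

theorem codim_D (x : C.s) : C.D.codim = (j : ℤ) + 1 := by
  show relCodim C.D.Z.scheme C.Y.scheme = _
  have := C.dim_W x
  have := C.dim_Y
  have := (C.g x).dim_eq
  rw [relCodim_eq (c := j + 1) (by omega)]
  simp

theorem isEmpty_Z (h : IsEmpty C.s) : IsEmpty C.D.Z.scheme :=
  ⟨fun z => h.elim (C.pieces z).choose⟩

instance (x : C.s) : IsClosedImmersion (C.g x).hom := C.pieces.isClosedImmersion x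

/-- The closed immersion of a piece into the open. -/
noncomputable abbrev f (x : C.s) : (C.W x).scheme ⟶ C.Y.scheme := (C.g x).hom ≫ C.D.i

variable {R : Type u} [CommRing R] {A : Coefs R} {T : PreTheory V R A} {M : A.Cat} {i n i' n' : ℤ}

/-- The component at a piece of the residue of the decomposition. -/
noncomputable def rho (x : C.s) (hi : i' = i + 1 - 2 * ((j : ℤ) + 1))
    (hn : n' = n - ((j : ℤ) + 1)) : T.gp C.D.U M i n ⟶ T.gp (C.W x) M i' n' :=
  T.res C.D M i n i' n' (by rw [C.codim_D x]; exact hi) (by rw [C.codim_D x]; exact hn) ≫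
    T.pull (C.g x) M i' n'

/-- The push-forward from a piece. -/
noncomputable def pushF (x : C.s) (hi : i' = i + 2 * ((j : ℤ) + 1))
    (hn : n' = n + ((j : ℤ) + 1)) : T.gp (C.W x) M i n ⟶ T.gp C.Y M i' n' :=
  T.push (C.f x) M i n i' n' (by rw [C.relCodim_W x]; exact hi) (by rw [C.relCodim_W x]; exact hn)

theorem pushF_eq (x : C.s) (hi : i' = i + 2 * ((j : ℤ) + 1)) (hn : n' = n + ((j : ℤ) + 1))
    (hiD : i' = i + 2 * relCodim C.D.Z.scheme C.Y.scheme)
    (hnD : n' = n + relCodim C.D.Z.scheme C.Y.scheme) (a : T.gp (C.W x) M i n) :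
    (C.pushF x hi hn).hom a =
      (T.push C.D.i M i n i' n' hiD hnD).hom
        ((T.push (C.g x).hom M i n i n (shift_fst (C.g x) i) (shift_snd (C.g x) n)).hom a) :=
  (push_push T rfl _ _ _ _ _ _ a).symm

theorem resData_cpt (Q : T.ResData X j) (x : C.s) (hi : i' = i + 1 - 2 * ((j : ℤ) + 1))
    (hn : n' = n - ((j : ℤ) + 1)) (a : T.gp C.D.U M i n) :
    (Q.cpt x.1 M i n i' n' hi hn).hom ((fcls T j (C.D.j ≫ C.e) C.hU).hom a) =
      (pcls T x.1.1 (C.k x) (C.hk x)).hom ((C.rho x hi hn).hom a) :=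
  resData_cpt_fcls Q x.1 C.e C.D C.hU (C.k x) (C.hk x) (C.g x) (C.comm x) hi hn _ _ a

theorem resData_cpt_not_mem (Q : T.ResData X j) (x : X.cdPt (j + 1)) (hx : x ∉ C.s)
    (hi : i' = i + 1 - 2 * ((j : ℤ) + 1)) (hn : n' = n - ((j : ℤ) + 1)) (a : T.gp C.D.U M i n) :
    (Q.cpt x M i n i' n' hi hn).hom ((fcls T j (C.D.j ≫ C.e) C.hU).hom a) = 0 :=
  resData_cpt_eq_zero Q x _ C.hU (not_not.mp fun h => hx ((C.hs x).mpr h)) hi hn a

theorem pushData_cpt (P : T.PushData X (j + 1)) (x : C.s) (hi : i' = i + 2 * ((j + 1 : ℕ) : ℤ))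
    (hn : n' = n + ((j + 1 : ℕ) : ℤ)) (a : T.gp (C.W x) M i n) :
    (P.cpt x.1 M i n i' n' hi hn).hom ((pcls T x.1.1 (C.k x) (C.hk x)).hom a) =
      (fcls T (j + 1) C.e C.hY).hom
        ((C.pushF x (by push_cast at hi ⊢; exact hi) (by push_cast at hn ⊢; exact hn)).hom a) :=
  pushData_cpt_pcls P x.1 (C.k x) (C.hk x) C.e C.hY (C.f x)
    (by rw [Category.assoc]; exact C.comm x) hi hn _ _ a

theorem sum_pushF_rho (hi : i' = i + 1 - 2 * ((j : ℤ) + 1)) (hn : n' = n - ((j : ℤ) + 1))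
    {k : ℤ} (hk : k = i + 1) (hi' : k = i' + 2 * ((j : ℤ) + 1)) (hn' : n = n' + ((j : ℤ) + 1))
    (a : T.gp C.D.U M i n) :
    ∑ x : C.s, (C.pushF x hi' hn').hom ((C.rho x hi hn).hom a) = 0 := by
  rcases isEmpty_or_nonempty C.s with h | ⟨⟨x₀⟩⟩
  · exact Finset.sum_of_isEmpty _
  have hc : relCodim C.D.Z.scheme C.Y.scheme = (j : ℤ) + 1 := C.codim_D x₀
  have hiD : k = i' + 2 * relCodim C.D.Z.scheme C.Y.scheme := by rw [hc]; exact hi'
  have hnD : n = n' + relCodim C.D.Z.scheme C.Y.scheme := by rw [hc]; exact hn'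
  have hres : i' = i + 1 - 2 * C.D.codim := by rw [C.codim_D x₀]; exact hi
  have hres' : n' = n - C.D.codim := by rw [C.codim_D x₀]; exact hn
  rw [Finset.sum_congr rfl fun x _ => C.pushF_eq x hi' hn' hiD hnD ((C.rho x hi hn).hom a),
    ← map_sum]
  exact (congrArg _ (C.pieces.sum_push_pull ((T.res C.D M i n i' n' hres hres').hom a))).trans
    (push_res_eq_zero C.D hres hres' hk hiD hnD a)

theorem exists_rho_eq (hi : i' = i + 1 - 2 * ((j : ℤ) + 1)) (hn : n' = n - ((j : ℤ) + 1))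
    {k : ℤ} (hk : k = i + 1) (hi' : k = i' + 2 * ((j : ℤ) + 1)) (hn' : n = n' + ((j : ℤ) + 1))
    (ξ : ∀ x : C.s, T.gp (C.W x) M i' n')
    (hξ : ∑ x : C.s, (C.pushF x hi' hn').hom (ξ x) = 0) :
    ∃ a : T.gp C.D.U M i n, ∀ x, (C.rho x hi hn).hom a = ξ x := by
  rcases isEmpty_or_nonempty C.s with h | ⟨⟨x₀⟩⟩
  · exact ⟨0, fun x => h.elim x⟩
  have hc := C.codim_D x₀
  have hiD : k = i' + 2 * relCodim C.D.Z.scheme C.Y.scheme := by
    show _ = _ + 2 * C.D.codim; rw [hc]; exact hi'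
  have hnD : n = n' + relCodim C.D.Z.scheme C.Y.scheme := by
    show _ = _ + C.D.codim; rw [hc]; exact hn'
  rw [Finset.sum_congr rfl fun x _ => C.pushF_eq x hi' hn' hiD hnD (ξ x), ← map_sum] at hξ
  obtain ⟨a, ha⟩ := exists_res_eq C.D (i := i) (i' := i') (n' := n') (by rw [hc]; exact hi)
    (by rw [hc]; exact hn) hk hiD hnD hξ
  refine ⟨a, fun x => ?_⟩
  simp only [rho, ModuleCat.hom_comp, LinearMap.comp_apply, ha]
  exact C.pieces.pull_sum_push ξ x

theorem exists_eq_sum_pushF (hi : i' = i + 2 * ((j : ℤ) + 1)) (hn : n' = n + ((j : ℤ) + 1))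
    {b : T.gp C.Y M i' n'} (hb : (T.pull C.D.j M i' n').hom b = 0) :
    ∃ ξ : ∀ x : C.s, T.gp (C.W x) M i n, ∑ x : C.s, (C.pushF x hi hn).hom (ξ x) = b := by
  rcases isEmpty_or_nonempty C.s with h | ⟨⟨x₀⟩⟩
  · refine ⟨fun x => h.elim x, ?_⟩
    haveI := C.isEmpty_Z h
    obtain ⟨z, hz⟩ := exists_push_eq C.D (i' := i' - 2 * C.D.codim) (n' := n' - C.D.codim)
      (by show _ = _ + 2 * C.D.codim; ring) (by show _ = _ + C.D.codim; ring) hb
    rw [Finset.sum_of_isEmpty, ← hz, eq_zero_of_isEmpty T z, map_zero]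
  have hc := C.codim_D x₀
  obtain ⟨z, hz⟩ := exists_push_eq C.D (i' := i) (n' := n)
    (by show _ = _ + 2 * C.D.codim; rw [hc]; exact hi)
    (by show _ = _ + C.D.codim; rw [hc]; exact hn) hb
  refine ⟨fun x => (T.pull (C.g x) M i n).hom z, ?_⟩
  rw [Finset.sum_congr rfl fun x _ => C.pushF_eq x hi hn _ _ _, ← map_sum,
    C.pieces.sum_push_pull, hz]

theorem exists_pull_eq_of_rho_eq_zero (hi : i' = i + 1 - 2 * ((j : ℤ) + 1))
    (hn : n' = n - ((j : ℤ) + 1)) {a : T.gp C.D.U M i n}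
    (ha : ∀ x, (C.rho x hi hn).hom a = 0) : ∃ b, (T.pull C.D.j M i n).hom b = a := by
  rcases isEmpty_or_nonempty C.s with h | ⟨⟨x₀⟩⟩
  · haveI := C.isEmpty_Z h
    exact exists_pull_eq C.D (i' := i + 1 - 2 * C.D.codim) (n' := n - C.D.codim) rfl rfl
      (eq_zero_of_isEmpty T _)
  have hc := C.codim_D x₀
  refine exists_pull_eq C.D (i' := i') (n' := n') (by rw [hc]; exact hi) (by rw [hc]; exact hn) (C.pieces.eq_zero fun x => ?_)
  exact ha x

section Restr

variable {Y' : Obj V} (k1 : Y' ⟶ C.Y) (h : ContainsFj X (j + 1) (k1 ≫ C.e).hom.opensRange)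

/-- The closed part over a smaller open. -/
noncomputable abbrev resZ : Obj V := C.D.Z.res (C.D.i ⁻¹ᵁ k1.hom.opensRange)

/-- The open part over a smaller open. -/
noncomputable abbrev resU : Obj V := C.D.U.res (C.D.j.hom ⁻¹ᵁ k1.hom.opensRange)

/-- A piece over a smaller open. -/
noncomputable abbrev resW (x : C.s) : Obj V := (C.W x).res (C.f x ⁻¹ᵁ k1.hom.opensRange)

include h

theorem nonempty_resW (x : C.s) :
    ((C.f x ⁻¹ᵁ k1.hom.opensRange : (C.W x).scheme.Opens) : Set (C.W x).scheme).Nonempty := by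
  obtain ⟨p, ⟨w, hw⟩, hp⟩ := exists_genericPoint_mem x.1.1 (C.hk x)
  obtain ⟨y', hy'⟩ := h x.1.1 x.1.2.le
  refine ⟨w, y', C.e.hom.isOpenEmbedding.injective ?_⟩
  rw [← Scheme.Hom.comp_apply, ← Scheme.Hom.comp_apply]
  show (k1 ≫ C.e).hom y' = ((C.f x) ≫ C.e.hom) w
  rw [hy', Category.assoc, C.comm x]
  show x.1.1 = X.ptSubι x.1.1 ((C.k x).hom w)
  rw [hw, hp]

theorem dim_resW (x : C.s) :
    WeilCoh.dim (C.resW k1 x).scheme = WeilCoh.dim (C.W x).scheme :=
  dim_res_of_ptSub (C.k x) (C.nonempty_resW k1 h x)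

theorem dim_resZ : WeilCoh.dim (C.resZ k1).scheme = WeilCoh.dim C.D.Z.scheme := by
  rcases isEmpty_or_nonempty C.s with he | ⟨⟨x⟩⟩
  · haveI := C.isEmpty_Z he
    haveI : IsEmpty (C.resZ k1).scheme := ⟨fun z => isEmptyElim z.1⟩
    rw [dim_eq_zero_of_isEmpty (C.resZ k1), dim_eq_zero_of_isEmpty C.D.Z]
  · refine dim_res_eq_of_range (((C.W x).resι _ (C.dim_resW k1 h x)) ≫ C.g x) ?_
    rintro _ ⟨w, rfl⟩
    exact w.2

theorem containsFj_resU : ContainsFj C.D.U j (C.D.j.hom ⁻¹ᵁ k1.hom.opensRange) := by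
  intro u hu
  have h1 : WeilCoh.codim X.scheme ((C.D.j ≫ C.e).hom u) ≤ j :=
    (codim_hom (C.D.j ≫ C.e) u).le.trans hu
  obtain ⟨y', hy'⟩ := h _ (h1.trans (Nat.le_succ j))
  exact ⟨y', C.e.hom.isOpenEmbedding.injective hy'⟩

/-- The inclusion of the restricted closed part. -/
noncomputable def gZ : C.resZ k1 ⟶ C.D.Z := C.D.Z.resι _ (C.dim_resZ k1 h)

/-- The inclusion of the restricted open part. -/
noncomputable def gU : C.resU k1 ⟶ C.D.U :=
  C.D.U.resι _ (dim_res_of_containsFj (C.containsFj_resU k1 h))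

/-- The inclusion of a restricted piece. -/
noncomputable def gW (x : C.s) : C.resW k1 x ⟶ C.W x := (C.W x).resι _ (C.dim_resW k1 h x)

omit h in
theorem range_iota_res : Set.range ((C.D.i ⁻¹ᵁ k1.hom.opensRange).ι ≫ C.D.i) ⊆ Set.range k1.hom := by
  rintro _ ⟨z, rfl⟩
  exact z.2

/-- The restriction of the decomposition. -/
noncomputable abbrev resD : Decomp Y' where
  Z := C.resZ k1
  U := C.resU k1
  i := IsOpenImmersion.lift k1.hom _ (C.range_iota_res k1)
  closedImm := by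
    refine MorphismProperty.of_isPullback
      (isPullback_of_range C.D.i _ k1.hom _ (IsOpenImmersion.lift_fac _ _ (C.range_iota_res k1)).symm
        ?_) C.D.closedImm
    rw [Scheme.Opens.range_ι]
    rfl
  j := homLift (C.gU k1 h ≫ C.D.j) k1 (by rintro _ ⟨u, rfl⟩; exact u.2)
  range_eq := by
    ext y
    have hj := congrArg Hom.hom (homLift_comp (C.gU k1 h ≫ C.D.j) k1
      (by rintro _ ⟨u, rfl⟩; exact u.2))
    constructor
    · rintro ⟨u, rfl⟩ ⟨z, hz⟩
      have h1 := congrArg k1.hom hz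
      rw [← Scheme.Hom.comp_apply, IsOpenImmersion.lift_fac, ← Scheme.Hom.comp_apply,
        ← comp_hom, hj] at h1
      exact (Set.ext_iff.mp C.D.range_eq _).mp ⟨_, rfl⟩ ⟨_, h1⟩
    · intro hy
      obtain ⟨u, hu⟩ : k1.hom y ∈ Set.range C.D.j.hom := by
        rw [C.D.range_eq]
        rintro ⟨z, hz⟩
        refine hy ⟨⟨z, ⟨y, hz.symm⟩⟩, k1.hom.isOpenEmbedding.injective ?_⟩
        rw [← Scheme.Hom.comp_apply, IsOpenImmersion.lift_fac]
        exact hz
      refine ⟨⟨u, ⟨y, hu.symm⟩⟩, k1.hom.isOpenEmbedding.injective ?_⟩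
      rw [← Scheme.Hom.comp_apply, ← comp_hom, hj]
      exact hu

theorem resD_i_comp : (C.resD k1 h).i ≫ k1.hom = (C.gZ k1 h).hom ≫ C.D.i :=
  IsOpenImmersion.lift_fac _ _ _

theorem resD_j_comp : (C.resD k1 h).j ≫ k1 = C.gU k1 h ≫ C.D.j :=
  homLift_comp _ _ _

/-- The chunk over a smaller open containing `F_{j+1}X`. -/
noncomputable abbrev restr : Chunk X j where
  Y := Y'
  e := k1 ≫ C.e
  hY := h
  D := C.resD k1 h
  hU := by
    intro y hy
    obtain ⟨u, hu⟩ := C.hU y hy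
    obtain ⟨y', hy'⟩ := h y (hy.trans (Nat.le_succ j))
    refine ⟨⟨u, y', C.e.hom.isOpenEmbedding.injective (hy'.trans hu.symm)⟩, ?_⟩
    rw [← Category.assoc, C.resD_j_comp k1 h]
    exact hu
  s := C.s
  hs x := by
    rw [C.hs]
    refine not_congr ⟨fun ⟨u, hu⟩ => ?_, fun ⟨u, hu⟩ => ?_⟩
    · obtain ⟨y', hy'⟩ := h x.1 x.2.le
      refine ⟨⟨u, y', C.e.hom.isOpenEmbedding.injective (hy'.trans hu.symm)⟩, ?_⟩
      rw [← Category.assoc, C.resD_j_comp k1 h]
      exact hu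
    · rw [← Category.assoc, C.resD_j_comp k1 h] at hu
      exact ⟨_, hu⟩
  W := C.resW k1
  k x := C.gW k1 h x ≫ C.k x
  hk x := by
    obtain ⟨w, hw⟩ := C.nonempty_resW k1 h x
    exact ⟨_, ⟨⟨w, hw⟩, rfl⟩⟩
  g x := homLift (C.gW k1 h x ≫ C.g x) (C.gZ k1 h) (by
    rintro _ ⟨w, rfl⟩
    exact ⟨⟨_, w.2⟩, rfl⟩)
  comm x := by
    have h1 := congrArg Hom.hom (homLift_comp (C.gW k1 h x ≫ C.g x) (C.gZ k1 h) (by
      rintro _ ⟨w, rfl⟩
      exact ⟨⟨_, w.2⟩, rfl⟩))
    simp only [comp_hom, Category.assoc] at h1 ⊢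
    rw [← Category.assoc (C.resD k1 h).i, C.resD_i_comp k1 h, Category.assoc, reassoc_of% h1,
      C.comm]
  pieces z := by
    obtain ⟨x, ⟨w, hw⟩, hu⟩ := C.pieces ((C.gZ k1 h).hom z)
    have h1 : ∀ (y : C.s), Set.range (homLift (C.gW k1 h y ≫ C.g y) (C.gZ k1 h) (by
        rintro _ ⟨v, rfl⟩
        exact ⟨⟨_, v.2⟩, rfl⟩)).hom = (C.gZ k1 h).hom ⁻¹' Set.range (C.g y).hom := by
      intro y
      ext z'
      have h2 := congrArg Hom.hom (homLift_comp (C.gW k1 h y ≫ C.g y) (C.gZ k1 h) (by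
        rintro _ ⟨v, rfl⟩
        exact ⟨⟨_, v.2⟩, rfl⟩))
      constructor
      · rintro ⟨v, rfl⟩
        rw [Set.mem_preimage, ← Scheme.Hom.comp_apply, ← comp_hom, h2]
        exact ⟨_, rfl⟩
      · rintro ⟨v, hv⟩
        have hmem : v ∈ C.f y ⁻¹ᵁ k1.hom.opensRange := by
          show C.D.i ((C.g y).hom v) ∈ k1.hom.opensRange
          rw [hv]
          exact z'.2
        refine ⟨⟨v, hmem⟩, (C.gZ k1 h).hom.isOpenEmbedding.injective ?_⟩
        rw [← Scheme.Hom.comp_apply, ← comp_hom, h2]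
        exact hv
    refine ⟨x, (h1 x).ge ⟨w, hw⟩, fun y hy => hu y ((h1 y).le hy)⟩

theorem rho_restr (x : C.s) (hi : i' = i + 1 - 2 * ((j : ℤ) + 1))
    (hn : n' = n - ((j : ℤ) + 1)) (a : T.gp C.D.U M i n) :
    ((C.restr k1 h).rho x hi hn).hom ((T.pull (C.gU k1 h) M i n).hom a) =
      (T.pull (C.gW k1 h x) M i' n').hom ((C.rho x hi hn).hom a) := by
  simp only [rho, ModuleCat.hom_comp, LinearMap.comp_apply]
  rw [pull_pull]
  have hZ : (C.gZ k1 h).hom ≫ C.D.i = (C.resD k1 h).i ≫ k1.hom := (C.resD_i_comp k1 h).symm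
  have hc : C.D.codim = (j : ℤ) + 1 := C.codim_D x
  have hc' : (C.resD k1 h).codim = (j : ℤ) + 1 := (C.restr k1 h).codim_D x
  have := res_pull_apply C.D (C.resD k1 h) (i' := i') (n' := n') k1 (C.gZ k1 h) (C.gU k1 h) hZ (C.resD_j_comp k1 h).symm
    (by rw [hc]; exact hi) (by rw [hc]; exact hn) (by rw [hc']; exact hi) (by rw [hc']; exact hn) a
  show (T.pull ((C.restr k1 h).g x) M i' n').hom ((T.res (C.resD k1 h) M i n i' n' _ _).hom _) = _
  rw [← this, pull_pull]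
  congr 3
  exact homLift_comp _ _ _

theorem pushF_restr (x : C.s) (hi : i' = i + 2 * ((j : ℤ) + 1)) (hn : n' = n + ((j : ℤ) + 1))
    (a : T.gp (C.W x) M i n) :
    (T.pull k1 M i' n').hom ((C.pushF x hi hn).hom a) =
      ((C.restr k1 h).pushF x hi hn).hom ((T.pull (C.gW k1 h x) M i n).hom a) := by
  haveI := (C.restr k1 h).pieces.isClosedImmersion x
  haveI := (C.restr k1 h).D.closedImm
  haveI : IsClosedImmersion ((C.restr k1 h).f x) := IsClosedImmersion.comp _ _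
  refine push_pull_apply T (C.f x) ((C.restr k1 h).f x) k1 (C.gW k1 h x) ?_ ?_ _ _ _ _ a
  · show _ = ((homLift (C.gW k1 h x ≫ C.g x) (C.gZ k1 h) _).hom ≫ (C.resD k1 h).i) ≫ k1.hom
    rw [Category.assoc, C.resD_i_comp k1 h, ← Category.assoc, ← Category.assoc]
    exact congrArg (fun t : C.resW k1 x ⟶ C.D.Z => t.hom ≫ C.D.i)
      (homLift_comp (C.gW k1 h x ≫ C.g x) (C.gZ k1 h) _).symm
  · exact Scheme.Opens.range_ι _

end Restr

/-- Classes at the pieces which vanish at the points vanish over a smaller open containing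
`F_{j+1}X`. -/
theorem exists_restr_vanish (ξ : ∀ x : C.s, T.gp (C.W x) M i n)
    (hξ : ∀ x : C.s, (pcls T x.1.1 (C.k x) (C.hk x)).hom (ξ x) = 0) :
    ∃ (Y' : Obj V) (k1 : Y' ⟶ C.Y) (h : ContainsFj X (j + 1) (k1 ≫ C.e).hom.opensRange),
      ∀ x : C.s, (T.pull (C.gW k1 h x) M i n).hom (ξ x) = 0 := by
  have hv := fun x => exists_pull_eq_zero T (hξ x)
  choose W' k' hne hz using hv
  let E : Set X.scheme := ⋃ x : C.s, (cutSet x.1.1 (k' x ≫ C.k x).hom.opensRange : Set X.scheme)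
  have hE : IsClosed E := isClosed_iUnion_of_finite fun x => (cutSet _ _).isClosed
  let O : C.Y.scheme.Opens :=
    ⟨C.e.hom ⁻¹' Eᶜ, hE.isOpen_compl.preimage C.e.hom.continuous⟩
  have hEc : ∀ y, WeilCoh.codim X.scheme y ≤ j + 1 → y ∉ E := by
    intro y hy hyE
    obtain ⟨x, hx⟩ := Set.mem_iUnion.mp hyE
    have := codim_lt_of_mem_cutSet (hne x) hx
    rw [x.1.2] at this
    omega
  have hO : ContainsFj C.Y (j + 1) O := fun y hy => hEc _ ((codim_hom C.e y).le.trans hy)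
  let k1 : C.Y.res O ⟶ C.Y := C.Y.resι O (dim_res_of_containsFj hO)
  have h : ContainsFj X (j + 1) (k1 ≫ C.e).hom.opensRange := by
    intro y hy
    obtain ⟨y', hy'⟩ := C.hY y hy
    exact ⟨⟨y', show C.e.hom y' ∈ Eᶜ from hy'.symm ▸ hEc y hy⟩, hy'⟩
  refine ⟨_, k1, h, fun x => ?_⟩
  have hsub : Set.range (C.gW k1 h x ≫ C.k x).hom ⊆ Set.range (k' x ≫ C.k x).hom := by
    rintro _ ⟨w, rfl⟩
    refine mem_of_not_mem_cutSet (O := (k' x ≫ C.k x).hom.opensRange) _ fun hw => ?_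
    obtain ⟨o, ho⟩ := w.2
    refine (show C.e.hom (k1.hom o) ∈ Eᶜ from o.2) (Set.mem_iUnion.mpr ⟨x, ?_⟩)
    rw [ho]
    have e1 : C.e.hom ((C.f x) w.1) = X.ptSubι x.1.1 ((C.gW k1 h x ≫ C.k x).hom w) := by
      show ((C.g x).hom ≫ C.D.i ≫ C.e.hom) w.1 = _
      rw [C.comm x]
      rfl
    rw [e1]
    exact hw
  have : homLift (C.gW k1 h x ≫ C.k x) (k' x ≫ C.k x) hsub ≫ k' x = C.gW k1 h x :=
    hom_ext_over (C.k x) (by rw [Category.assoc, homLift_comp])
  rw [← this, ← pull_pull, hz x, map_zero]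

end Chunk

end Groth.L22.BM
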