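import Groth.Agent.L22.BM.Basic
import Groth.Prelude.Def_BMCoh3
import Mathlib.Algebra.Category.ModuleCat.FilteredColimits
import Mathlib.CategoryTheory.Limits.FunctorCategory.Basic
import Mathlib.CategoryTheory.Filtered.Basic

/-!
Elements of the open-system colimits: the class of a cohomology class of an object mapping to `X`,
representability, and the criterion for a class to vanish.
-/

universe u

open AlgebraicGeometry CategoryTheory CategoryTheory.Limits Opposite BMCoh

namespace Groth.L22.BM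

variable {V : ObjectProperty Scheme.{u}} [IsConstructible V] {R : Type u} [CommRing R] {A : Coefs R}
  (T : PreTheory V R A) {X Y Y' : Obj V} {P Q : X.scheme.Opens → Prop} {M : A.Cat} {i n : ℤ}

/-- The index given by a morphism into `X`. -/
noncomputable abbrev oidx (e : Y ⟶ X) (h : P e.hom.opensRange) : Idx X P :=
  ⟨e.hom.opensRange, h, dim_res_opensRange e⟩

/-- The image of a morphism of objects is its source. -/
noncomputable def rangeIso (e : Y ⟶ X) : X.res e.hom.opensRange ⟶ Y :=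
  ⟨e.hom.isoOpensRange.inv, inferInstance, (dim_res_opensRange e).trans e.dim_eq.symm⟩

instance (e : Y ⟶ X) : IsIso (rangeIso e).hom :=
  inferInstanceAs (IsIso e.hom.isoOpensRange.inv)

@[simp, reassoc]
theorem rangeIso_hom_comp (e : Y ⟶ X) : (rangeIso e).hom ≫ e.hom = e.hom.opensRange.ι :=
  e.hom.isoOpensRange_inv_comp

theorem ocolimι_pull {U U' : Idx X P} (h : U' ≤ U) (a : T.gp (X.res U.1) M i n) :
    ((T.ocolimι X P i n U').app M).hom
      ((T.pull (X.resLE h (U'.2.2.trans U.2.2.symm)) M i n).hom a) =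
      ((T.ocolimι X P i n U).app M).hom a := by
  have := congrArg (fun f => (f.app M).hom a)
    (colimit.w ((idxDiag X P).op ⋙ T.H i n) (homOfLE h).op)
  exact this

variable (P) in
/-- The class in the colimit of a class on an object over `X`. -/
noncomputable def ocls (e : Y ⟶ X) (h : P e.hom.opensRange) :
    T.gp Y M i n ⟶ (T.ocolim X P i n).obj M :=
  T.pull (rangeIso e) M i n ≫ (T.ocolimι X P i n (oidx e h)).app M

theorem ocls_apply (e : Y ⟶ X) (h : P e.hom.opensRange) (a : T.gp Y M i n) :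
    (ocls T P e h).hom a = ((T.ocolimι X P i n (oidx e h)).app M).hom
      ((T.pull (rangeIso e) M i n).hom a) := rfl

theorem ocls_congr {e e' : Y ⟶ X} (he : e = e') (h : P e.hom.opensRange)
    (h' : P e'.hom.opensRange) (a : T.gp Y M i n) :
    (ocls T P e h).hom a = (ocls T P e' h').hom a := by
  subst he; rfl

theorem ocls_pull (k : Y' ⟶ Y) (e : Y ⟶ X) (e' : Y' ⟶ X) (he : k ≫ e = e')
    (h : P e.hom.opensRange) (h' : P e'.hom.opensRange) (a : T.gp Y M i n) :
    (ocls T P e' h').hom ((T.pull k M i n).hom a) = (ocls T P e h).hom a := by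
  subst he
  have hle : oidx (k ≫ e) h' ≤ oidx e h := by
    rintro _ ⟨y, rfl⟩
    exact ⟨k.hom y, rfl⟩
  have key : rangeIso (k ≫ e) ≫ k =
      X.resLE hle ((oidx (k ≫ e) h').2.2.trans (oidx e h).2.2.symm) ≫ rangeIso e := by
    refine hom_ext_mono e.hom ?_
    have h1 := rangeIso_hom_comp (k ≫ e)
    simp only [comp_hom, Category.assoc] at h1 ⊢
    rw [h1, rangeIso_hom_comp]
    exact (Scheme.homOfLE_ι X.scheme hle).symm
  rw [ocls_apply, ocls_apply, ← ocolimι_pull T hle, pull_pull, pull_pull, key]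

theorem ocls_resι (U : Idx X P) (h : P (X.resι U.1 U.2.2).hom.opensRange)
    (b : T.gp (X.res U.1) M i n) :
    (ocls T P (X.resι U.1 U.2.2) h).hom b = ((T.ocolimι X P i n U).app M).hom b := by
  have hle : oidx (X.resι U.1 U.2.2) h ≤ U := (Scheme.Opens.opensRange_ι U.1).le
  rw [ocls_apply, ← ocolimι_pull T hle]
  have key : rangeIso (X.resι U.1 U.2.2) =
      X.resLE hle ((oidx (X.resι U.1 U.2.2) h).2.2.trans U.2.2.symm) := by
    refine hom_ext_mono U.1.ι ?_
    exact (rangeIso_hom_comp (X.resι U.1 U.2.2)).trans (Scheme.homOfLE_ι X.scheme hle).symm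
  rw [key]

theorem P_resι (U : Idx X P) : P (X.resι U.1 U.2.2).hom.opensRange := by
  rw [show (X.resι U.1 U.2.2).hom.opensRange = U.1 from Scheme.Opens.opensRange_ι U.1]
  exact U.2.1

theorem ocolimMap_ocls (hPQ : ∀ U, P U → Q U) (e : Y ⟶ X) (h : P e.hom.opensRange)
    (h' : Q e.hom.opensRange) (a : T.gp Y M i n) :
    ((T.ocolimMap X hPQ i n).app M).hom ((ocls T P e h).hom a) = (ocls T Q e h').hom a := by
  have := congrArg (fun f => (f.app M).hom ((T.pull (rangeIso e) M i n).hom a))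
    (colimit.ι_pre ((idxDiag X Q).op ⋙ T.H i n) (idxIncl X hPQ).op (op (oidx e h)))
  exact this

section Filtered

theorem isFiltered_idx (h0 : ∃ U : X.scheme.Opens, P U ∧
      WeilCoh.dim (U : Scheme.{u}) = WeilCoh.dim X.scheme)
    (h : ∀ U U' : Idx X P, P (U.1 ⊓ U'.1) ∧
      WeilCoh.dim ((U.1 ⊓ U'.1 : X.scheme.Opens) : Scheme.{u}) = WeilCoh.dim X.scheme) :
    IsFiltered (Idx X P)ᵒᵖ := by
  haveI : IsCofilteredOrEmpty (Idx X P) :=
    { cone_objs := fun U U' => ⟨⟨U.1 ⊓ U'.1, h U U'⟩,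
        homOfLE (show U.1 ⊓ U'.1 ≤ U.1 from inf_le_left),
        homOfLE (show U.1 ⊓ U'.1 ≤ U'.1 from inf_le_right), trivial⟩
      cone_maps := fun U U' f g => ⟨U, 𝟙 _, Subsingleton.elim _ _⟩ }
  haveI : Nonempty (Idx X P) := let ⟨U, hU⟩ := h0; ⟨⟨U, hU⟩⟩
  haveI : IsCofiltered (Idx X P) := {}
  exact isFiltered_op_of_isCofiltered _

instance (j : ℕ) : IsFiltered (Idx X (ContainsFj X j))ᵒᵖ :=
  isFiltered_idx ⟨⊤, fun _ _ => trivial, dim_top X.scheme⟩ fun U U' =>
    have h : ContainsFj X j (U.1 ⊓ U'.1) := fun y hy => ⟨U.2.1 y hy, U'.2.1 y hy⟩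
    ⟨h, dim_res_of_containsFj h⟩

instance (x : X.scheme) : IsFiltered (ptIdx X x)ᵒᵖ :=
  isFiltered_idx ⟨⊤, by
      haveI := irreducibleSpace_ptSub X x
      exact Set.univ_nonempty, dim_top _⟩ fun U U' => by
    haveI := irreducibleSpace_ptSub X x
    have h : ((U.1 ⊓ U'.1 : (X.ptSub x).scheme.Opens) : Set (X.ptSub x).scheme).Nonempty :=
      nonempty_preirreducible_inter U.1.2 U'.1.2 U.2.1 U'.2.1
    exact ⟨h, (ptIdxMk x _ h).2.2⟩

variable [IsFiltered (Idx X P)ᵒᵖ]

theorem exists_ocls (a : (T.ocolim X P i n).obj M) :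
    ∃ (Y : Obj V) (e : Y ⟶ X) (h : P e.hom.opensRange) (b : T.gp Y M i n),
      (ocls T P e h).hom b = a := by
  obtain ⟨U, b, hb⟩ := Concrete.isColimit_exists_rep _
    (isColimitOfPreserves ((evaluation A.Cat (ModuleCat.{u} R)).obj M)
      (colimit.isColimit ((idxDiag X P).op ⋙ T.H i n))) a
  exact ⟨_, X.resι U.unop.1 U.unop.2.2, P_resι _, b, (ocls_resι T _ _ b).trans hb⟩

theorem exists_pull_eq_zero {e : Y ⟶ X} {h : P e.hom.opensRange} {a : T.gp Y M i n}
    (ha : (ocls T P e h).hom a = 0) :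
    ∃ (Y' : Obj V) (k : Y' ⟶ Y), P (k ≫ e).hom.opensRange ∧ (T.pull k M i n).hom a = 0 := by
  rw [ocls_apply, ← map_zero ((T.ocolimι X P i n (oidx e h)).app M).hom] at ha
  obtain ⟨W, f, g, hW⟩ := (Concrete.isColimit_rep_eq_iff_exists _
    (isColimitOfPreserves ((evaluation A.Cat (ModuleCat.{u} R)).obj M)
      (colimit.isColimit ((idxDiag X P).op ⋙ T.H i n))) _ (0 : T.gp (X.res (oidx e h).1) M i n)).mp ha
  let k : X.res W.unop.1 ⟶ Y :=
    X.resLE f.unop.le (W.unop.2.2.trans (oidx e h).2.2.symm) ≫ rangeIso e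
  refine ⟨_, k, ?_, ?_⟩
  · have : k ≫ e = X.resι W.unop.1 W.unop.2.2 :=
      hom_ext_mono (𝟙 X.scheme) (by simp [k, Obj.resLE, Obj.resι])
    rw [this]
    exact P_resι _
  · rw [← pull_pull]
    exact hW.trans (map_zero _)

theorem ocls_eq_zero_iff {e : Y ⟶ X} {h : P e.hom.opensRange} {a : T.gp Y M i n} :
    (ocls T P e h).hom a = 0 ↔
      ∃ (Y' : Obj V) (k : Y' ⟶ Y), P (k ≫ e).hom.opensRange ∧ (T.pull k M i n).hom a = 0 :=
  ⟨exists_pull_eq_zero T, fun ⟨Y', k, hk, hz⟩ => by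
    rw [← ocls_pull T k e _ rfl h hk, hz, map_zero]⟩

end Filtered

/-- The class in the groups of `F_j X`. -/
noncomputable abbrev fcls (j : ℕ) (e : Y ⟶ X) (h : ContainsFj X j e.hom.opensRange) :
    T.gp Y M i n ⟶ T.fjGp X j M i n :=
  ocls T (ContainsFj X j) e h

/-- The class in the groups of a point. -/
noncomputable abbrev pcls (x : X.scheme) (e : Y ⟶ X.ptSub x)
    (h : (e.hom.opensRange : Set (X.ptSub x).scheme).Nonempty) :
    T.gp Y M i n ⟶ T.ptGp X x M i n :=
  ocls T (fun U => (U : Set (X.ptSub x).scheme).Nonempty) e h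

end Groth.L22.BM
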