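import Groth.Agent.L22.BM.Exact

/-!
Consequences of the exact sequences: comparison of `H(X)` with `H(F_j X)`, the criterion through the
closed subobjects of codimension `j + 1`, the groups of `F_0 X` of a reduced object, vanishing in
high degree.
-/

universe u

open AlgebraicGeometry CategoryTheory CategoryTheory.Limits Opposite BMCoh TopologicalSpace

namespace Groth.L22.BM

variable {V : ObjectProperty Scheme.{u}} [IsConstructible V] {X Y U : Obj V}
  {R : Type u} [CommRing R] {A : Coefs R} {T : PreTheory V R A} {M : A.Cat} {i n i' n' : ℤ}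
  {j : ℕ}

section ToFj

theorem isIso_hom_of_forall (f : Y ⟶ X) (h : ∀ x, x ∈ Set.range f.hom) : IsIso f.hom := by
  have he : Set.range f.hom = Set.range (𝟙 X.scheme : X.scheme ⟶ X.scheme) :=
    Set.ext fun x => ⟨fun _ => ⟨x, rfl⟩, fun _ => h x⟩
  have := IsOpenImmersion.isoOfRangeEq_hom_fac f.hom (𝟙 X.scheme) he
  rw [Category.comp_id] at this
  rw [← this]
  infer_instance

theorem toFj_bijective_of_dim_le {m : ℕ} (hm : WeilCoh.dim X.scheme ≤ m) :
    Function.Bijective ((T.toFj X m i n).app M).hom := by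
  have hall : ∀ y : X.scheme, WeilCoh.codim X.scheme y ≤ m := fun y => (Nat.sub_le _ _).trans hm
  refine ⟨(injective_iff_map_eq_zero _).mpr fun a ha => ?_, fun b => ?_⟩
  · rw [toFj_apply] at ha
    obtain ⟨Y', k, hk, hka⟩ := exists_pull_eq_zero T ha
    haveI := isIso_hom_of_forall k fun x => by
      obtain ⟨y, hy⟩ := hk x (hall x)
      exact ⟨y, hy⟩
    exact (pull_bijective T k).1 (hka.trans (map_zero _).symm)
  · obtain ⟨Y', e, he, c, rfl⟩ := exists_ocls T b
    haveI := isIso_hom_of_forall e fun x => he x (hall x)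
    obtain ⟨a, rfl⟩ := (pull_bijective T e).2 c
    exact ⟨a, by rw [toFj_apply]; exact (ocls_pull T e (𝟙 X) e (Category.comp_id e) _ he a).symm⟩

theorem fjRes_comp_toFj {m : ℕ} (hm : j ≤ m) (a : T.gp X M i n) :
    ((T.fjRes X hm i n).app M).hom (((T.toFj X m i n).app M).hom a) =
      ((T.toFj X j i n).app M).hom a := by
  rw [toFj_apply, toFj_apply, fjRes_fcls]

theorem toFj_bijective (hvan : ∀ (x : X.scheme) (k l : ℤ), k < 0 → IsZero (T.ptGp X x M k l))
    (hj : i ≤ 2 * (j : ℤ)) : Function.Bijective ((T.toFj X j i n).app M).hom := by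
  obtain ⟨d, hd⟩ : ∃ d, WeilCoh.dim X.scheme ≤ j + d := ⟨_, Nat.le_add_left _ _⟩
  induction d generalizing j with
  | zero => exact toFj_bijective_of_dim_le hd
  | succ d ih =>
    have h1 := fjRes_bijective (T := T) (X := X) (M := M) (j := j) (i := i) (n := n)
      (fun x _ => hvan x _ _ (by omega)) (fun x _ => hvan x _ _ (by omega))
    have h2 := ih (j := j + 1) (by push_cast; omega) (by omega)
    convert h1.comp h2 using 1
    exact funext fun a => (fjRes_comp_toFj _ a).symm

theorem pull_bijective_of_big (f : U ⟶ X)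
    (hX : Function.Bijective ((T.toFj X j i n).app M).hom)
    (hU : Function.Bijective ((T.toFj U j i n).app M).hom)
    (hbig : ContainsFj X j f.hom.opensRange) : Function.Bijective (T.pull f M i n).hom := by
  refine ⟨(injective_iff_map_eq_zero _).mpr fun a ha => hX.1 ?_, fun b => ?_⟩
  · rw [toFj_apply, map_zero,
      ← ocls_pull T f (𝟙 X) f (Category.comp_id f) (containsFj_id j) hbig a, ha, map_zero]
  · obtain ⟨a, ha⟩ := hX.2 ((fcls T j f hbig).hom b)
    refine ⟨a, ?_⟩
    rw [toFj_apply, ← ocls_pull T f (𝟙 X) f (Category.comp_id f) (containsFj_id j) hbig a,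
      ← sub_eq_zero, ← map_sub] at ha
    obtain ⟨Y', k, hk, hk0⟩ := exists_pull_eq_zero T ha
    refine sub_eq_zero.mp (hU.1 ?_)
    rw [toFj_apply, map_zero]
    refine (ocls_eq_zero_iff T).mpr ⟨Y', k, fun u hu => ?_, hk0⟩
    obtain ⟨y, hy⟩ := hk (f.hom u) ((codim_hom f u).le.trans hu)
    exact ⟨y, f.hom.isOpenEmbedding.injective hy⟩

end ToFj

section Cut

variable (D : Decomp Y) {Z1 : Obj V} (k : Z1 ⟶ D.Z)

/-- `Y` minus the part of the closed piece outside an open of it. -/
noncomputable def cutOpen : Y.scheme.Opens :=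
  ⟨(D.i '' (Set.range k.hom)ᶜ)ᶜ,
    (D.i.isClosedEmbedding.isClosedMap _ k.hom.isOpenEmbedding.isOpen_range.isClosed_compl).isOpen_compl⟩

theorem range_j_subset_cutOpen : Set.range D.j.hom ⊆ (cutOpen D k : Set Y.scheme) := by
  rw [D.range_eq]
  exact Set.compl_subset_compl.mpr (Set.image_subset_range _ _)

theorem range_k_subset_cutOpen : Set.range (k.hom ≫ D.i) ⊆ (cutOpen D k : Set Y.scheme) := by
  rintro _ ⟨z, rfl⟩ ⟨w, hw, hwz⟩
  exact hw (D.i.isClosedEmbedding.injective hwz ▸ ⟨z, rfl⟩)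

/-- Its inclusion. -/
noncomputable def cutHom : Y.res (cutOpen D k) ⟶ Y :=
  Y.resι _ (dim_res_eq_of_range D.j (range_j_subset_cutOpen D k))

theorem range_cutHom : Set.range (cutHom D k).hom = (cutOpen D k : Set Y.scheme) :=
  Scheme.Opens.range_ι _

/-- The decomposition of the cut-down object. -/
noncomputable def cutDecomp : Decomp (Y.res (cutOpen D k)) where
  Z := Z1
  U := D.U
  i := IsOpenImmersion.lift (cutHom D k).hom (k.hom ≫ D.i)
    ((range_k_subset_cutOpen D k).trans (range_cutHom D k).ge)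
  closedImm := by
    refine MorphismProperty.of_isPullback (isPullback_of_range D.i _ (cutHom D k).hom k.hom
      (IsOpenImmersion.lift_fac _ _ _).symm ?_) D.closedImm
    rw [range_cutHom]
    ext z
    exact ⟨fun hz hz' => by
      obtain ⟨w, hw, hwz⟩ := hz'
      exact hw (D.i.isClosedEmbedding.injective hwz ▸ hz),
      fun hz => by_contra fun h => hz ⟨z, h, rfl⟩⟩
  j := homLift D.j (cutHom D k) ((range_j_subset_cutOpen D k).trans (range_cutHom D k).ge)
  range_eq := by
    ext y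
    have e1 : y ∈ Set.range (homLift D.j (cutHom D k)
        ((range_j_subset_cutOpen D k).trans (range_cutHom D k).ge)).hom ↔
        (cutHom D k).hom y ∈ Set.range D.j.hom := by
      conv_rhs => rw [← homLift_comp D.j (cutHom D k)
        ((range_j_subset_cutOpen D k).trans (range_cutHom D k).ge)]
      simp only [comp_hom, Scheme.Hom.comp_apply, Set.mem_range]
      exact ⟨fun ⟨w, hw⟩ => ⟨w, hw ▸ rfl⟩,
        fun ⟨w, hw⟩ => ⟨w, (cutHom D k).hom.isOpenEmbedding.injective hw⟩⟩
    rw [e1, D.range_eq, Set.mem_compl_iff, Set.mem_compl_iff, not_iff_not]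
    constructor
    · rintro ⟨z, hz⟩
      have hy : (cutHom D k).hom y ∈ (cutOpen D k : Set Y.scheme) := range_cutHom D k ▸ ⟨y, rfl⟩
      by_cases hzk : z ∈ Set.range k.hom
      · obtain ⟨w, rfl⟩ := hzk
        refine ⟨w, (cutHom D k).hom.isOpenEmbedding.injective ?_⟩
        rw [← Scheme.Hom.comp_apply, IsOpenImmersion.lift_fac]
        exact hz
      · exact absurd ⟨z, hzk, hz⟩ hy
    · rintro ⟨w, rfl⟩
      rw [← Scheme.Hom.comp_apply, IsOpenImmersion.lift_fac]
      exact ⟨k.hom w, rfl⟩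

theorem cutDecomp_i_comp : (cutDecomp D k).i ≫ (cutHom D k).hom = k.hom ≫ D.i :=
  IsOpenImmersion.lift_fac _ _ _

theorem cutDecomp_j_comp : (cutDecomp D k).j ≫ cutHom D k = D.j :=
  homLift_comp _ _ _

theorem cutDecomp_codim : (cutDecomp D k).codim = D.codim := by
  show relCodim Z1.scheme (Y.res (cutOpen D k)).scheme = relCodim D.Z.scheme Y.scheme
  unfold relCodim
  rw [(cutHom D k).dim_eq, k.dim_eq]

theorem pull_cut_push_eq_zero (hi : i' = i + 2 * relCodim D.Z.scheme Y.scheme)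
    (hn : n' = n + relCodim D.Z.scheme Y.scheme) {z : T.gp D.Z M i n}
    (hz : (T.pull k M i n).hom z = 0) :
    (T.pull (cutHom D k) M i' n').hom ((T.push D.i M i n i' n' hi hn).hom z) = 0 := by
  have hc : relCodim (cutDecomp D k).Z.scheme (Y.res (cutOpen D k)).scheme =
      relCodim D.Z.scheme Y.scheme := cutDecomp_codim D k
  rw [push_pull_apply T D.i (cutDecomp D k).i (cutHom D k) k (cutDecomp_i_comp D k).symm ?_ hi hn
    (by rw [hc]; exact hi) (by rw [hc]; exact hn) z]
  · exact (congrArg _ hz).trans (map_zero _)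
  rw [range_cutHom]
  ext z'
  exact ⟨fun hz hz' => by
    obtain ⟨w, hw, hwz⟩ := hz'
    exact hw (D.i.isClosedEmbedding.injective hwz ▸ hz),
    fun hz => by_contra fun h => hz ⟨z', h, rfl⟩⟩

theorem exists_cut_extend (hi : i' = i + 1 - 2 * D.codim) (hn : n' = n - D.codim)
    {b : T.gp D.U M i n} (hb : (T.pull k M i' n').hom ((T.res D M i n i' n' hi hn).hom b) = 0) :
    ∃ c, (T.pull (cutDecomp D k).j M i n).hom c = b := by
  refine exists_pull_eq (cutDecomp D k) (i' := i') (n' := n')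
    (by rw [cutDecomp_codim]; exact hi) (by rw [cutDecomp_codim]; exact hn) ?_
  have h := res_pull_apply D (cutDecomp D k) (cutHom D k) k (𝟙 D.U) (cutDecomp_i_comp D k).symm
    ((Category.id_comp D.j).trans (cutDecomp_j_comp D k).symm) hi hn
    (by rw [cutDecomp_codim]; exact hi) (by rw [cutDecomp_codim]; exact hn) b
  have h2 := h.symm.trans hb
  erw [pull_id_apply] at h2
  exact h2

end Cut

section Closed

theorem exists_big_closed (hj : j + 1 ≤ WeilCoh.dim X.scheme) (S : Closeds X.scheme)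
    (hS : ∀ y ∈ S, j + 1 ≤ WeilCoh.codim X.scheme y) :
    ∃ C : Closeds X.scheme, S ≤ C ∧ (∀ y ∈ C, j + 1 ≤ WeilCoh.codim X.scheme y) ∧
      WeilCoh.dim (redSub X C).scheme + (j + 1) = WeilCoh.dim X.scheme := by
  haveI : Nonempty X.scheme := by
    by_contra h
    haveI : IsEmpty X.scheme := not_nonempty_iff.mp h
    rw [dim_eq_zero_of_isEmpty X] at hj
    omega
  obtain ⟨η, hη⟩ := exists_pdim_eq_dim X
  obtain ⟨x0, -, hx0⟩ := exists_specializes_pdim_eq X η
    (n := WeilCoh.dim X.scheme - (j + 1)) (by omega)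
  have hc0 : WeilCoh.codim X.scheme x0 = j + 1 := by
    show WeilCoh.dim X.scheme - WeilCoh.pdim X.scheme x0 = _
    omega
  refine ⟨⟨(S : Set X.scheme) ∪ closure {x0}, S.isClosed.union isClosed_closure⟩,
    Set.subset_union_left, ?_, ?_⟩
  · rintro y (hy | hy)
    · exact hS y hy
    · exact hc0 ▸ codim_mono X (specializes_iff_mem_closure.mpr hy)
  · set C : Closeds X.scheme :=
      ⟨(S : Set X.scheme) ∪ closure {x0}, S.isClosed.union isClosed_closure⟩
    have hC : ∀ z, WeilCoh.pdim (redSub X C).scheme z + (j + 1) ≤ WeilCoh.dim X.scheme := by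
      intro z
      rw [← pdim_of_isClosedImmersion (X := X) (redSubι X C) z]
      have h1 : j + 1 ≤ WeilCoh.codim X.scheme (redSubι X C z) := by
        rcases (range_redSubι X C ▸ Set.mem_range_self (f := redSubι X C) z :
          redSubι X C z ∈ (C : Set X.scheme)) with hy | hy
        · exact hS _ hy
        · exact hc0 ▸ codim_mono X (specializes_iff_mem_closure.mpr hy)
      have h2 := pdim_add_codim X (redSubι X C z)
      omega
    obtain ⟨z0, hz0⟩ : x0 ∈ Set.range (redSubι X C) := by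
      rw [range_redSubι]; exact Or.inr (subset_closure rfl)
    haveI : Nonempty (redSub X C).scheme := ⟨z0⟩
    obtain ⟨z1, hz1⟩ := exists_pdim_eq_dim (redSub X C)
    have h1 := hC z1
    have h2 := pdim_le_dim (redSub X C) z0
    rw [← pdim_of_isClosedImmersion (X := X) (redSubι X C) z0, hz0, hx0] at h2
    omega

theorem exists_decomp {m : ℕ} (C : Closeds X.scheme) (hC : ∀ y ∈ C, j + 1 ≤ WeilCoh.codim X.scheme y)
    (hdim : WeilCoh.dim (redSub X C).scheme + (j + 1) = WeilCoh.dim X.scheme) {Y0 : Obj V}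
    (e : Y0 ⟶ X) (he : ContainsFj X (j + 1 + m) e.hom.opensRange) :
    ∃ (D : Decomp Y0) (g : D.Z ⟶ redSub X C), D.i ≫ e.hom = g.hom ≫ redSubι X C ∧
      ContainsFj (redSub X C) m g.hom.opensRange ∧
      ContainsFj X j (D.j ≫ e).hom.opensRange ∧
      (∀ y, y ∈ Set.range (D.j ≫ e).hom → y ∉ C) := by
  let ι := redSubι X C
  have hcodim : ∀ z : (redSub X C).scheme, WeilCoh.codim X.scheme (ι z) = WeilCoh.codim (redSub X C).scheme z + (j + 1) := by
    intro z
    have h1 := pdim_add_codim X (ι z)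
    have h2 := pdim_add_codim (redSub X C) z
    rw [pdim_of_isClosedImmersion (X := X) ι z] at h1
    omega
  have hZO : ContainsFj (redSub X C) m (ι ⁻¹ᵁ e.hom.opensRange) := fun z hz =>
    he (ι z) (by rw [hcodim]; omega)
  let O : Y0.scheme.Opens := ⟨e.hom ⁻¹' (C : Set X.scheme)ᶜ, C.isClosed.isOpen_compl.preimage
    e.hom.continuous⟩
  have hO : ContainsFj Y0 j O := fun y hy hyC => by
    have := (hC _ hyC).trans ((codim_hom e y).le.trans hy)
    omega
  have hsub : Set.range ((ι ⁻¹ᵁ e.hom.opensRange).ι ≫ ι) ⊆ Set.range e.hom := by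
    rintro _ ⟨z, rfl⟩
    exact z.2
  let D : Decomp Y0 :=
    { Z := (redSub X C).res (ι ⁻¹ᵁ e.hom.opensRange)
      U := Y0.res O
      i := IsOpenImmersion.lift e.hom _ hsub
      closedImm := by
        refine MorphismProperty.of_isPullback
          (isPullback_of_range ι _ e.hom _ (IsOpenImmersion.lift_fac _ _ hsub).symm ?_) inferInstance
        rw [Scheme.Opens.range_ι]
        rfl
      j := Y0.resι O (dim_res_of_containsFj hO)
      range_eq := by
        refine (Scheme.Opens.range_ι O).trans (Set.ext fun y => ?_)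
        show e.hom y ∉ (C : Set X.scheme) ↔ _
        rw [Set.mem_compl_iff, not_iff_not, ← range_redSubι X C]
        constructor
        · rintro ⟨z, hz⟩
          refine ⟨⟨z, ⟨y, hz.symm⟩⟩, e.hom.isOpenEmbedding.injective ?_⟩
          rw [← Scheme.Hom.comp_apply, IsOpenImmersion.lift_fac]
          exact hz
        · rintro ⟨z, rfl⟩
          refine ⟨z.1, ?_⟩
          rw [← Scheme.Hom.comp_apply, IsOpenImmersion.lift_fac]
          rfl }
  refine ⟨D, (redSub X C).resι _ (dim_res_of_containsFj hZO), IsOpenImmersion.lift_fac _ _ _,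
    fun z hz => ⟨⟨z, hZO z hz⟩, rfl⟩, fun y hy => ?_, ?_⟩
  · obtain ⟨y', rfl⟩ := he y (hy.trans (by omega))
    exact ⟨⟨y', hO y' ((codim_hom e y').symm.le.trans hy)⟩, rfl⟩
  · rintro _ ⟨y, rfl⟩
    exact y.2

theorem containsFj_cut {m : ℕ} {C : Closeds X.scheme}
    (hdim : WeilCoh.dim (redSub X C).scheme + (j + 1) = WeilCoh.dim X.scheme) {Y0 : Obj V}
    {e : Y0 ⟶ X} (he : ContainsFj X (j + 1 + m) e.hom.opensRange) {D : Decomp Y0}
    {g : D.Z ⟶ redSub X C} (comm : D.i ≫ e.hom = g.hom ≫ redSubι X C) {Z1 : Obj V}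
    {k : Z1 ⟶ D.Z} (hk : ContainsFj (redSub X C) m (k ≫ g).hom.opensRange) :
    ContainsFj X (j + 1 + m) (cutHom D k ≫ e).hom.opensRange := by
  intro y hy
  obtain ⟨y', rfl⟩ := he y hy
  have hy' : y' ∈ cutOpen D k := by
    rintro ⟨z, hz, rfl⟩
    refine hz ?_
    have h1 : e.hom (D.i z) = redSubι X C (g.hom z) := by
      rw [← Scheme.Hom.comp_apply, comm]; rfl
    have h2 := pdim_add_codim X (e.hom (D.i z))
    have h3 := pdim_add_codim (redSub X C) (g.hom z)
    rw [h1, pdim_of_isClosedImmersion (X := X) (redSubι X C) (g.hom z), ← h1] at h2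
    obtain ⟨w, hw⟩ := hk (g.hom z) (by omega)
    exact ⟨w, g.hom.isOpenEmbedding.injective hw⟩
  exact ⟨⟨y', hy'⟩, rfl⟩

theorem isFiltered_fj (Z : Obj V) (m : ℕ) : IsFiltered (Idx Z (ContainsFj Z m))ᵒᵖ := inferInstance

theorem fjRes_bijective_closed {m : ℕ}
    (hZ : ∀ (Z : Obj V) (ι : Z.scheme ⟶ X.scheme) [IsClosedImmersion ι] [IsReduced Z.scheme],
      WeilCoh.dim Z.scheme + (j + 1) = WeilCoh.dim X.scheme →
        IsZero (T.fjGp Z m M (i - 2 * ((j : ℤ) + 1)) (n - ((j : ℤ) + 1))) ∧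
          IsZero (T.fjGp Z m M (i + 1 - 2 * ((j : ℤ) + 1)) (n - ((j : ℤ) + 1)))) :
    Function.Bijective
      ((T.fjRes X ((Nat.le_succ j).trans (Nat.le_add_right (j + 1) m)) i n).app M).hom := by
  rcases Nat.lt_or_ge (WeilCoh.dim X.scheme) (j + 1) with hd | hd
  · have h1 : Function.Bijective ((T.toFj X (j + 1 + m) i n).app M).hom :=
      toFj_bijective_of_dim_le (by omega)
    have h2 : Function.Bijective ((T.toFj X j i n).app M).hom := toFj_bijective_of_dim_le (by omega)
    refine (Function.Bijective.of_comp_iff _ h1).mp ?_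
    convert h2 using 1
    exact funext fun a => fjRes_comp_toFj _ a
  refine ⟨(injective_iff_map_eq_zero _).mpr fun a ha => ?_, fun a => ?_⟩
  · obtain ⟨Y0, e0, he0, b, rfl⟩ := exists_ocls T a
    rw [fjRes_fcls] at ha
    obtain ⟨U0, k, hk, hkb⟩ := exists_pull_eq_zero T ha
    let S : Closeds X.scheme :=
      ⟨(Set.range (k ≫ e0).hom)ᶜ, (k ≫ e0).hom.isOpenEmbedding.isOpen_range.isClosed_compl⟩
    obtain ⟨C, hSC, hC, hdim⟩ := exists_big_closed hd S fun y hy =>
      not_lt.mp fun h => hy (hk y (Nat.lt_succ_iff.mp h))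
    obtain ⟨D, g, comm, hg, -, hDC⟩ := exists_decomp C hC hdim e0 he0
    have hsub : Set.range (D.j ≫ e0).hom ⊆ Set.range (k ≫ e0).hom := fun y hy =>
      not_not.mp fun h => hDC y hy (hSC h)
    have hz : (T.pull D.j M i n).hom b = 0 := by
      rw [← hom_ext_over (f := homLift (D.j ≫ e0) (k ≫ e0) hsub ≫ k) (g := D.j) e0
        (by rw [Category.assoc, homLift_comp]), ← pull_pull, hkb, map_zero]
    have hc : relCodim D.Z.scheme Y0.scheme = (j : ℤ) + 1 := by
      have := g.dim_eq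
      have := e0.dim_eq
      rw [relCodim_eq (c := j + 1) (by omega)]
      simp
    obtain ⟨z, rfl⟩ := exists_push_eq D (i' := i - 2 * ((j : ℤ) + 1)) (n' := n - ((j : ℤ) + 1))
      (by rw [hc]; ring) (by rw [hc]; ring) hz
    haveI := ModuleCat.subsingleton_of_isZero ((hZ (redSub X C) (redSubι X C) hdim).1)
    haveI := isFiltered_fj (redSub X C) m
    obtain ⟨Z1, k1, hk1, hk1z⟩ := exists_pull_eq_zero T
      (Subsingleton.elim ((fcls T m g hg).hom z) 0)
    exact (ocls_eq_zero_iff T).mpr ⟨_, cutHom D k1, containsFj_cut hdim he0 comm hk1,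
      pull_cut_push_eq_zero D k1 _ _ hk1z⟩
  · obtain ⟨U0, u, hu, b, rfl⟩ := exists_ocls T a
    let S : Closeds X.scheme :=
      ⟨(Set.range u.hom)ᶜ, u.hom.isOpenEmbedding.isOpen_range.isClosed_compl⟩
    obtain ⟨C, hSC, hC, hdim⟩ := exists_big_closed hd S fun y hy =>
      not_lt.mp fun h => hy (hu y (Nat.lt_succ_iff.mp h))
    obtain ⟨D, g, comm, hg, hDU, hDC⟩ := exists_decomp C hC hdim (𝟙 X) (containsFj_id (j + 1 + m))
    have hsub : Set.range (D.j ≫ 𝟙 X).hom ⊆ Set.range u.hom := fun y hy =>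
      not_not.mp fun h => hDC y hy (hSC h)
    have hc : D.codim = (j : ℤ) + 1 := by
      have := g.dim_eq
      show relCodim D.Z.scheme X.scheme = _
      rw [relCodim_eq (c := j + 1) (by omega)]
      simp
    let b' := (T.pull (homLift (D.j ≫ 𝟙 X) u hsub) M i n).hom b
    haveI := ModuleCat.subsingleton_of_isZero ((hZ (redSub X C) (redSubι X C) hdim).2)
    haveI := isFiltered_fj (redSub X C) m
    obtain ⟨Z1, k1, hk1, hk1z⟩ := exists_pull_eq_zero T
      (Subsingleton.elim ((fcls T m g hg).hom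
        ((T.res D M i n (i + 1 - 2 * ((j : ℤ) + 1)) (n - ((j : ℤ) + 1)) (by rw [hc]) (by rw [hc])).hom
          b')) 0)
    obtain ⟨c, hcb⟩ := exists_cut_extend D k1 _ _ hk1z
    have hE := containsFj_cut hdim (containsFj_id _) comm hk1
    refine ⟨(fcls T (j + 1 + m) (cutHom D k1 ≫ 𝟙 X) hE).hom c, ?_⟩
    rw [fjRes_fcls,
      ← ocls_pull T (cutDecomp D k1).j (cutHom D k1 ≫ 𝟙 X) (D.j ≫ 𝟙 X)
        (by rw [← Category.assoc, cutDecomp_j_comp]) _ hDU c, hcb]
    exact ocls_pull T _ u _ (homLift_comp _ _ _) hu hDU b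

end Closed

section Top

theorem finite_cdPt_zero : Finite (X.cdPt 0) := by
  obtain ⟨E, s, hs, -, -⟩ := exists_level (X := X) 0 ⊤ fun y _ => Nat.zero_le _
  exact Finite.of_injective (fun x => (⟨x, (hs x).mpr trivial⟩ : s))
    fun a b h => congrArg Subtype.val h

/-- A good open containing `F_0 X` of a reduced object: it is partitioned by the pieces of the
closures of the points of codimension zero. -/
theorem exists_top_pieces [IsReduced X.scheme] {Y0 : Obj V} (e0 : Y0 ⟶ X)
    (h0 : ContainsFj X 0 e0.hom.opensRange) :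
    ∃ (Y : Obj V) (e : Y ⟶ X) (h : ContainsFj X 0 e.hom.opensRange)
      (g : ∀ x : X.cdPt 0, pieceObj e x.1 ⟶ Y), Set.range e.hom ⊆ Set.range e0.hom ∧
      IsPieces g ∧ ∀ x, (g x).hom = pieceι e x.1 := by
  obtain ⟨E, s, hs, hE, hpart⟩ := exists_level (X := X) 0 ⊤ fun y _ => Nat.zero_le _
  let O : X.scheme.Opens := ⟨Set.range e0.hom ∩ (E : Set X.scheme)ᶜ,
    e0.hom.isOpenEmbedding.isOpen_range.inter E.isClosed.isOpen_compl⟩
  have hO : ContainsFj X 0 O := fun y hy => ⟨h0 y hy, fun h => absurd hy (not_le.mpr (hE y h).2)⟩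
  let e : X.res O ⟶ X := X.resι O (dim_res_of_containsFj hO)
  have he : Set.range e.hom = (O : Set X.scheme) := Scheme.Opens.range_ι O
  haveI : IsReduced (X.res O).scheme := isReduced_of_isOpenImmersion O.ι
  have hmem : ∀ x ∈ s, x.1 ∈ e.hom.opensRange := fun x _ => show x.1 ∈ Set.range e.hom from
    he ▸ hO x.1 x.2.le
  have hall : ∀ x : X.cdPt 0, x ∈ s := fun x => (hs x).mpr trivial
  obtain ⟨g, hg, hgc⟩ := exists_pieces e (𝟙 (X.res O).scheme) s hmem
    (fun x => ⟨pieceι e x.1.1, Category.comp_id _⟩) fun z =>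
      hpart _ trivial ((he ▸ Set.mem_range_self (f := e.hom) z : e.hom z ∈ (O : Set X.scheme)).2)
  refine ⟨_, e, fun y hy => show y ∈ Set.range e.hom from he ▸ hO y hy, fun x => g ⟨x, hall x⟩,
    he ▸ Set.inter_subset_left, fun z => ?_, fun x => ?_⟩
  · obtain ⟨x, hx, hu⟩ := hg z
    exact ⟨x.1, hx, fun y hy => congrArg Subtype.val (hu ⟨y, hall y⟩ hy)⟩
  · simpa using hgc ⟨x, hall x⟩

theorem mem_opensRange_of_cdPt_zero {Y : Obj V} {e : Y ⟶ X}
    (h : ContainsFj X 0 e.hom.opensRange) (x : X.cdPt 0) : x.1 ∈ e.hom.opensRange :=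
  h x.1 x.2.le

theorem relCodim_piece_zero {Y : Obj V} {e : Y ⟶ X} (h : ContainsFj X 0 e.hom.opensRange)
    (x : X.cdPt 0) : relCodim (pieceObj e x.1).scheme Y.scheme = 0 := by
  refine relCodim_eq_zero ?_
  rw [dim_piece (mem_opensRange_of_cdPt_zero h x), e.dim_eq, ← pdim_add_codim X x.1, x.2, add_zero]

/-- A class of a good open vanishes in `H(F_0 X)` if its components at the points vanish. -/
theorem fcls_zero_eq_zero [IsReduced X.scheme] {Y : Obj V} {e : Y ⟶ X}
    (h : ContainsFj X 0 e.hom.opensRange) (g : ∀ x : X.cdPt 0, pieceObj e x.1 ⟶ Y)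
    (hg : ∀ x, (g x).hom = pieceι e x.1) (b : T.gp Y M i n)
    (hb : ∀ x : X.cdPt 0,
      (pcls T x.1 (pieceHom (mem_opensRange_of_cdPt_zero h x))
        (nonempty_pieceHom (mem_opensRange_of_cdPt_zero h x))).hom
          ((T.pull (g x) M i n).hom b) = 0) :
    (fcls T 0 e h).hom b = 0 := by
  haveI := finite_cdPt_zero (X := X)
  have hv := fun x => exists_pull_eq_zero T (hb x)
  choose W' k' hne hz using hv
  let E : Set X.scheme := ⋃ x : X.cdPt 0, (cutSet x.1
    (k' x ≫ pieceHom (mem_opensRange_of_cdPt_zero h x)).hom.opensRange : Set X.scheme)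
  have hE : IsClosed E := isClosed_iUnion_of_finite fun x => (cutSet _ _).isClosed
  let O : X.scheme.Opens := ⟨Set.range e.hom ∩ Eᶜ,
    e.hom.isOpenEmbedding.isOpen_range.inter hE.isOpen_compl⟩
  have hO : ContainsFj X 0 O := fun y hy => ⟨h y hy, fun hyE => by
    obtain ⟨x, hx⟩ := Set.mem_iUnion.mp hyE
    have := codim_lt_of_mem_cutSet (hne x) hx
    omega⟩
  obtain ⟨Y1, e1, h1, g1, hsub, hpieces, hg1⟩ := exists_top_pieces (X.resι O (dim_res_of_containsFj hO))
    (fun y hy => show y ∈ Set.range O.ι from (Scheme.Opens.range_ι O).ge (hO y hy))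
  have hsub' : Set.range e1.hom ⊆ (O : Set X.scheme) := hsub.trans (Scheme.Opens.range_ι O).le
  let k1 : Y1 ⟶ Y := homLift e1 e (hsub'.trans Set.inter_subset_left)
  have hk1 : k1 ≫ e = e1 := homLift_comp _ _ _
  rw [← ocls_pull T k1 e e1 hk1 h h1]
  suffices (T.pull k1 M i n).hom b = 0 by rw [this, map_zero]
  refine hpieces.eq_zero fun x => ?_
  have hle : Set.range (pieceHom (mem_opensRange_of_cdPt_zero h1 x)).hom ⊆
      Set.range (k' x ≫ pieceHom (mem_opensRange_of_cdPt_zero h x)).hom := by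
    rintro _ ⟨w, rfl⟩
    refine mem_of_not_mem_cutSet
      (O := (k' x ≫ pieceHom (mem_opensRange_of_cdPt_zero h x)).hom.opensRange) _ fun hw => ?_
    exact (hsub' w.2).2 (Set.mem_iUnion.mpr ⟨x, hw⟩)
  have key : g1 x ≫ k1 = homLift (pieceHom (mem_opensRange_of_cdPt_zero h1 x))
      (k' x ≫ pieceHom (mem_opensRange_of_cdPt_zero h x)) hle ≫ k' x ≫ g x := by
    refine hom_ext_over e ?_
    rw [Category.assoc, hk1]
    refine Hom.ext ?_
    have hl := congrArg Hom.hom (homLift_comp (pieceHom (mem_opensRange_of_cdPt_zero h1 x))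
      (k' x ≫ pieceHom (mem_opensRange_of_cdPt_zero h x)) hle)
    simp only [comp_hom, Category.assoc, hg, hg1, pieceι_comp, pieceHom_hom] at hl ⊢
    rw [reassoc_of% hl]
  rw [pull_pull, key, ← pull_pull, ← pull_pull, hz x, map_zero]

theorem pushTot_bijective_zero [IsReduced X.scheme] (P : T.PushData X 0)
    (hi : i' = i + 2 * ((0 : ℕ) : ℤ)) (hn : n' = n + ((0 : ℕ) : ℤ)) :
    Function.Bijective (P.tot M i n i' n' hi hn).hom := by
  classical
  haveI := finite_cdPt_zero (X := X)
  haveI := Fintype.ofFinite (X.cdPt 0)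
  obtain rfl : i = i' := by push_cast at hi; omega
  obtain rfl : n = n' := by push_cast at hn; omega
  have hP : ∀ {Y : Obj V} {e : Y ⟶ X} (h : ContainsFj X 0 e.hom.opensRange)
      (g : ∀ x : X.cdPt 0, pieceObj e x.1 ⟶ Y) (hg : ∀ x, (g x).hom = pieceι e x.1)
      [∀ x, IsClosedImmersion (g x).hom] (c : ∀ x : X.cdPt 0, T.gp (pieceObj e x.1) M i n),
      ∑ x, (P.cpt x M i n i n hi hn).hom
        ((pcls T x.1 (pieceHom (mem_opensRange_of_cdPt_zero h x))
          (nonempty_pieceHom (mem_opensRange_of_cdPt_zero h x))).hom (c x)) =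
        (fcls T 0 e h).hom (∑ x, (T.push (g x).hom M i n i n
          (shift_fst (g x) i) (shift_snd (g x) n)).hom (c x)) := by
    intro Y e h g hg _ c
    rw [map_sum]
    refine Finset.sum_congr rfl fun x _ => ?_
    exact pushData_cpt_pcls P x _ _ e h (g x).hom (by rw [hg, pieceι_comp, pieceHom_hom]) hi hn _ _ _
  refine ⟨(injective_iff_map_eq_zero _).mpr fun ξ hξ => ?_, fun a => ?_⟩
  · have hr := fun x : X.cdPt 0 => exists_ocls T (X := X.ptSub x.1) (ξ x)
    choose Wx kx hkx bx hbx using hr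
    let E : Set X.scheme := ⋃ x : X.cdPt 0, (cutSet x.1 (kx x).hom.opensRange : Set X.scheme)
    have hE : IsClosed E := isClosed_iUnion_of_finite fun x => (cutSet _ _).isClosed
    let O : X.scheme.Opens := ⟨Eᶜ, hE.isOpen_compl⟩
    have hO : ContainsFj X 0 O := fun y hy hyE => by
      obtain ⟨x, hx⟩ := Set.mem_iUnion.mp hyE
      have := codim_lt_of_mem_cutSet (hkx x) hx
      omega
    obtain ⟨Y, e, h, g, hsub, hpieces, hg⟩ := exists_top_pieces (X.resι O (dim_res_of_containsFj hO))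
      (fun y hy => show y ∈ Set.range O.ι from (Scheme.Opens.range_ι O).ge (hO y hy))
    have hsub' : Set.range e.hom ⊆ (O : Set X.scheme) := hsub.trans (Scheme.Opens.range_ι O).le
    haveI : ∀ x, IsClosedImmersion (g x).hom := hpieces.isClosedImmersion
    have hle : ∀ x : X.cdPt 0, Set.range (pieceHom (mem_opensRange_of_cdPt_zero h x)).hom ⊆
        Set.range (kx x).hom := by
      rintro x _ ⟨w, rfl⟩
      refine mem_of_not_mem_cutSet (O := (kx x).hom.opensRange) _ fun hw => ?_
      exact (hsub' w.2) (Set.mem_iUnion.mpr ⟨x, hw⟩)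
    let η : ∀ x : X.cdPt 0, T.gp (pieceObj e x.1) M i n :=
      fun x => (T.pull (homLift (pieceHom (mem_opensRange_of_cdPt_zero h x)) (kx x) (hle x))
        M i n).hom (bx x)
    have hη : ∀ x : X.cdPt 0, (pcls T x.1 (pieceHom (mem_opensRange_of_cdPt_zero h x))
        (nonempty_pieceHom (mem_opensRange_of_cdPt_zero h x))).hom (η x) = ξ x := fun x =>
      (ocls_pull T _ _ _ (homLift_comp (pieceHom (mem_opensRange_of_cdPt_zero h x)) (kx x) (hle x))
        (hkx x) _ _).trans (hbx x)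
    have hsum : ∑ x : X.cdPt 0, DirectSum.lof R (X.cdPt 0)
        (fun y : X.cdPt 0 => T.ptGp X y.1 M i n) x (ξ x) = ξ := by
      refine Eq.trans ?_ (sum_lof_eq (R := R) Finset.univ ξ (by simp))
      exact (Finset.sum_coe_sort Finset.univ (fun x => DirectSum.lof R (X.cdPt 0)
        (fun y : X.cdPt 0 => T.ptGp X y.1 M i n) x (ξ x))).symm
    have hzero := hξ
    rw [← hsum, map_sum] at hzero
    rw [Finset.sum_congr rfl fun x _ =>
      (P.tot_lof M i n i n hi hn x (ξ x)).trans (congrArg _ (hη x).symm)] at hzero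
    rw [hP h g hg η] at hzero
    obtain ⟨Y', k1, hk1, hk0⟩ := exists_pull_eq_zero T hzero
    refine DFinsupp.ext fun x => ?_
    have hk0' := hk0
    have hne : (((g x).hom ⁻¹ᵁ k1.hom.opensRange :
        (pieceObj e x.1).scheme.Opens) : Set (pieceObj e x.1).scheme).Nonempty := by
      obtain ⟨p, ⟨w, hw⟩, hp⟩ :=
        exists_genericPoint_mem x.1 (nonempty_pieceHom (mem_opensRange_of_cdPt_zero h x))
      obtain ⟨y', hy'⟩ := hk1 x.1 x.2.le
      refine ⟨w, y', e.hom.isOpenEmbedding.injective ?_⟩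
      refine hy'.trans ?_
      rw [← Scheme.Hom.comp_apply, hg, pieceι_comp, ← pieceHom_hom (mem_opensRange_of_cdPt_zero h x),
        Scheme.Hom.comp_apply, hw, hp]
    let gW : (pieceObj e x.1).res ((g x).hom ⁻¹ᵁ k1.hom.opensRange) ⟶ pieceObj e x.1 :=
      (pieceObj e x.1).resι _
        (dim_res_of_ptSub (pieceHom (mem_opensRange_of_cdPt_zero h x)) hne)
    have hl : Set.range (gW ≫ g x).hom ⊆ Set.range k1.hom := by
      rintro _ ⟨w, rfl⟩
      exact w.2
    rw [← hη x]
    refine (ocls_eq_zero_iff T).mpr ⟨_, gW, ?_, ?_⟩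
    · obtain ⟨w, hw⟩ := hne
      exact ⟨_, ⟨⟨w, hw⟩, rfl⟩⟩
    · rw [← hpieces.pull_sum_push η x, pull_pull, ← homLift_comp (gW ≫ g x) k1 hl, ← pull_pull,
        hk0', map_zero]
  · obtain ⟨Y0, e0, h0, b, rfl⟩ := exists_ocls T a
    obtain ⟨Y, e, h, g, hsub, hpieces, hg⟩ := exists_top_pieces e0 h0
    haveI : ∀ x, IsClosedImmersion (g x).hom := hpieces.isClosedImmersion
    let k := homLift e e0 hsub
    refine ⟨∑ x : X.cdPt 0, DirectSum.lof R (X.cdPt 0) (fun y : X.cdPt 0 => T.ptGp X y.1 M i n) x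
      ((pcls T x.1 (pieceHom (mem_opensRange_of_cdPt_zero h x))
        (nonempty_pieceHom (mem_opensRange_of_cdPt_zero h x))).hom
          ((T.pull (g x) M i n).hom ((T.pull k M i n).hom b))), ?_⟩
    rw [map_sum]
    refine (Finset.sum_congr rfl fun x _ => P.tot_lof M i n i n hi hn x _).trans ?_
    rw [hP h g hg, hpieces.sum_push_pull]
    exact ocls_pull T k e0 e (homLift_comp _ _ _) h0 h b

theorem fjGp_subsingleton [IsReduced X.scheme] (c : ℕ)
    (hc : ∀ (x : X.scheme) (k l : ℤ), (WeilCoh.pdim X.scheme x : ℤ) + c < k →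
      IsZero (T.ptGp X x M k l))
    (j : ℕ) : ∀ i n : ℤ, (WeilCoh.dim X.scheme : ℤ) + j + c < i →
      Subsingleton (T.fjGp X j M i n) := by
  induction j with
  | zero =>
    intro i n hi
    refine subsingleton_of_forall_eq 0 fun a => ?_
    obtain ⟨Y0, e0, h0, b, rfl⟩ := exists_ocls T a
    obtain ⟨Y, e, h, g, hsub, -, hg⟩ := exists_top_pieces e0 h0
    rw [← ocls_pull T (homLift e e0 hsub) e0 e (homLift_comp _ _ _) h0 h b]
    refine fcls_zero_eq_zero h g hg _ fun x => ?_
    haveI := ModuleCat.subsingleton_of_isZero (hc x.1 i n (by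
      have := pdim_le_dim X x.1
      push_cast at hi
      omega))
    exact Subsingleton.elim _ _
  | succ j ih =>
    intro i n hi
    refine subsingleton_of_forall_eq 0 fun a => ?_
    haveI := ih i n (by push_cast at hi; omega)
    obtain ⟨C, ξ, rfl⟩ := exists_sum_pushF (a := a) (i := i - 2 * ((j : ℤ) + 1))
      (n := n - ((j : ℤ) + 1)) (Subsingleton.elim _ _) (by ring) (by ring)
    refine fcls_sum_pushF_eq_zero C _ _ ξ fun x => ?_
    haveI := ModuleCat.subsingleton_of_isZero (hc x.1.1 (i - 2 * ((j : ℤ) + 1))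
      (n - ((j : ℤ) + 1)) (by
        have := pdim_add_codim X x.1.1
        have := x.1.2
        push_cast at hi
        omega))
    exact Subsingleton.elim _ _

end Top

end Groth.L22.BM
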