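import Groth.Agent.L22.BM.PtPush
import Groth.Prelude.Def_BMCoh5

/-!
The first differential of the coniveau spectral sequence: the composite of push-forward and residue
computed on a proper birational cover of the closure of a point.
-/

universe u

open AlgebraicGeometry CategoryTheory CategoryTheory.Limits Opposite BMCoh TopologicalSpace

namespace Groth.L22.BM

variable {V : ObjectProperty Scheme.{u}} [IsConstructible V] {Y X : Obj V}
  {R : Type u} [CommRing R] {A : Coefs R} {T : PreTheory V R A} {M : A.Cat} {i n : ℤ}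

theorem range_isoOpensRange_comp {W : Obj V} (e : W ⟶ X) :
    e.hom.isoOpensRange.hom ≫ e.hom.opensRange.ι = e.hom := by
  rw [← rangeIso_hom_comp e, ← Category.assoc, isoOpensRange_hom_rangeIso, Category.id_comp]

/-- A push-forward datum on a general class of the point. -/
theorem ptPush_cpt_general {φ : Y.scheme ⟶ X.scheme} {y : Y.scheme} {x : X.scheme}
    (L : T.PtPush φ y x) {W W' : Obj V} (k : W ⟶ Y.ptSub y)
    (hk : (k.hom.opensRange : Set (Y.ptSub y).scheme).Nonempty) (k' : W' ⟶ X.ptSub x)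
    (hk' : (k'.hom.opensRange : Set (X.ptSub x).scheme).Nonempty) (f : W.scheme ⟶ W'.scheme)
    [IsProper f] (comm : f ≫ k'.hom ≫ X.ptSubι x = k.hom ≫ Y.ptSubι y ≫ φ)
    (hi : i = i + 2 * relCodim W.scheme W'.scheme) (hn : n = n + relCodim W.scheme W'.scheme)
    (a : T.gp W M i n) :
    (L.cpt M i n).hom ((pcls T y k hk).hom a) =
      (pcls T x k' hk').hom ((T.push f M i n i n hi hn).hom a) := by
  let f' : ((Y.ptSub y).res k.hom.opensRange).scheme ⟶ ((X.ptSub x).res k'.hom.opensRange).scheme :=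
    (rangeIso k).hom ≫ f ≫ k'.hom.isoOpensRange.hom
  haveI : IsProper f' := by dsimp only [f']; infer_instance
  have hcomm : f' ≫ k'.hom.opensRange.ι ≫ X.ptSubι x =
      k.hom.opensRange.ι ≫ Y.ptSubι y ≫ φ := by
    simp only [f', Category.assoc]
    rw [reassoc_of% (range_isoOpensRange_comp k'), comm, rangeIso_hom_comp_assoc]
  have hc : relCodim ((Y.ptSub y).res k.hom.opensRange).scheme
      ((X.ptSub x).res k'.hom.opensRange).scheme = relCodim W.scheme W'.scheme := by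
    unfold relCodim
    rw [(rangeIso k).dim_eq, (rangeIso k').dim_eq]
  have hi'' := hc ▸ hi
  have hn'' := hc ▸ hn
  rw [ocls_apply, ocls_apply]
  have := DFunLike.congr_fun (congrArg ModuleCat.Hom.hom
    (L.cpt_spec M i n (oidx k hk) (oidx k' hk') f' hcomm hi'' hn''))
    ((T.pull (rangeIso k) M i n).hom a)
  refine this.trans ?_
  show ((T.ptι X x i n (oidx k' hk')).app M).hom _ = _
  congr 1
  refine (push_pull_apply T f f' (rangeIso k') (rangeIso k) ?_ ?_ hi hn hi'' hn'' a).symm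
  · simp only [f', Category.assoc, isoOpensRange_hom_rangeIso, Category.comp_id]
  · rw [Set.range_eq_univ.mpr (rangeIso k).hom.surjective,
      Set.range_eq_univ.mpr (rangeIso k').hom.surjective, Set.preimage_univ]

namespace Chunk

theorem mem_range_g {j : ℕ} (C : Chunk X j) (x : C.s) (z : C.D.Z.scheme)
    (h : x.1.1 ⤳ C.e.hom (C.D.i z)) : z ∈ Set.range (C.g x).hom := by
  obtain ⟨p, ⟨w, hw⟩, hp⟩ := exists_genericPoint_mem x.1.1 (C.hk x)
  have h0 : C.e.hom (C.D.i ((C.g x).hom w)) = x.1.1 := by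
    show ((C.g x).hom ≫ C.D.i ≫ C.e.hom) w = _
    rw [C.comm x, Scheme.Hom.comp_apply, hw, hp]
  rw [← h0, C.e.hom.isOpenEmbedding.isInducing.specializes_iff,
    C.D.i.isClosedEmbedding.isInducing.specializes_iff] at h
  exact h.mem_closed (C.pieces.isClosed_range x) ⟨w, rfl⟩

end Chunk

theorem eq_genericPoint_of_codim_eq_zero {η : Y.scheme} (hgen : ∀ y, η ⤳ y)
    (hη : WeilCoh.codim Y.scheme η = 0) {y : Y.scheme}
    (hy : WeilCoh.codim Y.scheme y = 0) : η = y :=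
  eq_of_specializes_of_codim_le Y (hgen y) (hy.le.trans hη.symm.le)

set_option maxHeartbeats 1000000 in
theorem first_differential
    (hred : ∀ (S : Obj V) (D D'' : Decomp S) (gU : D''.U ⟶ D.U)
      (k : D''.Z.scheme ⟶ D.Z.scheme) [IsClosedImmersion k] [AlgebraicGeometry.Surjective k],
      gU ≫ D.j = D''.j → k ≫ D.i = D''.i →
      ∀ (M : A.Cat) (i n i' n' : ℤ) (hi : i' = i + 1 - 2 * D.codim) (hn : n' = n - D.codim)
        (hi'' : i' = i + 1 - 2 * D''.codim) (hn'' : n' = n - D''.codim)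
        (hk : i' = i' + 2 * relCodim D''.Z.scheme D.Z.scheme)
        (hk' : n' = n' + relCodim D''.Z.scheme D.Z.scheme),
      T.pull gU M i n ≫ T.res D'' M i n i' n' hi'' hn'' ≫ T.push k M i' n' i' n' hk hk' =
        T.res D M i n i' n' hi hn)
    {q : ℕ} (w : X.cdPt q) (φ : Y.scheme ⟶ X.scheme) [IsProper φ]
    {η : Y.scheme} (hgen : ∀ y, η ⤳ y) (hη : WeilCoh.codim Y.scheme η = 0)
    (P : T.PushData X q) (Q : T.ResData X q) (L : T.PtPush φ η w.1)
    (P' : T.PushData Y 0) (Q' : T.ResData Y 0) (t : Y.cdPt 1 → X.cdPt (q + 1))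
    (F : ∀ y : Y.cdPt 1, T.PtPush φ y.1 (t y).1)
    (i₁ n₁ i₂ n₂ i₃ n₃ : ℤ) (h1 : i₁ = i + 2 * (q : ℤ)) (h1' : n₁ = n + (q : ℤ))
    (h2 : i₂ = i₁ + 1 - 2 * ((q : ℤ) + 1)) (h2' : n₂ = n₁ - ((q : ℤ) + 1))
    (h3 : i₃ = i + 2 * ((0 : ℕ) : ℤ)) (h3' : n₃ = n + ((0 : ℕ) : ℤ))
    (h4 : i₂ = i₃ + 1 - 2 * (((0 : ℕ) : ℤ) + 1)) (h4' : n₂ = n₃ - (((0 : ℕ) : ℤ) + 1))
    (a : T.ptGp Y η M i n) :
    (Q.tot M i₁ n₁ i₂ n₂ h2 h2').hom ((P.cpt w M i n i₁ n₁ h1 h1').hom ((L.cpt M i n).hom a)) =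
      (PreTheory.PtPush.famTot t F M i₂ n₂).hom
        ((Q'.tot M i₃ n₃ i₂ n₂ h4 h4').hom
          ((P'.cpt ⟨η, hη⟩ M i n i₃ n₃ h3 h3').hom a)) := by
  classical
  obtain rfl : i₃ = i := by push_cast at h3; omega
  obtain rfl : n₃ = n := by push_cast at h3'; omega
  have hdimY : WeilCoh.pdim X.scheme w.1 = WeilCoh.dim Y.scheme := by
    rw [ptPush_pdim_eq L, ← pdim_add_codim Y η, hη, add_zero]
  have hwd := pdim_add_codim X w.1
  rw [w.2] at hwd
  -- a representative of the class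
  obtain ⟨W1, hW1, ξ1, rfl⟩ := exists_ptPush_rep L a
  -- the open of `X` on which the image is closed
  let Uq : X.scheme.Opens := ⟨(cutSet w.1 W1 : Set X.scheme)ᶜ, (cutSet w.1 W1).isClosed.isOpen_compl⟩
  have hUq : ContainsFj X q Uq := fun y hy hy' => by
    have := codim_lt_of_mem_cutSet hW1 hy'
    rw [w.2] at this
    omega
  let uq : X.res Uq ⟶ X := X.resι Uq (dim_res_of_containsFj hUq)
  have huq : Set.range uq.hom = (Uq : Set X.scheme) := Scheme.Opens.range_ι Uq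
  let SY : Closeds Y.scheme :=
    ⟨φ ⁻¹' (cutSet w.1 W1 : Set X.scheme), (cutSet w.1 W1).isClosed.preimage φ.continuous⟩
  have hwUq : w.1 ∈ (Uq : Set X.scheme) := hUq w.1 w.2.le
  have hSY : ∀ y ∈ SY, 1 ≤ WeilCoh.codim Y.scheme y := by
    intro y hy
    by_contra h
    rw [← eq_genericPoint_of_codim_eq_zero hgen hη (y := y) (by omega)] at hy
    have h5 : φ η ∈ cutSet w.1 W1 := hy
    rw [show φ η = w.1 from L.maps_pt] at h5
    exact hwUq h5
  obtain ⟨EY, sY, hsY, hEY, hpart⟩ := exists_level 1 SY hSY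
  -- remove the image of the bad set
  let U0 : X.scheme.Opens :=
    ⟨(φ '' (EY : Set Y.scheme))ᶜ, (φ.isClosedMap _ EY.isClosed).isOpen_compl⟩
  have hU0 : ContainsFj X (q + 1) U0 := by
    rintro z hz ⟨y, hy, rfl⟩
    have h5 := (hEY y hy).2
    have h6 := pdim_le_pdim_map φ y
    have h7 := pdim_add_codim Y y
    have h8 := pdim_add_codim X (φ y)
    omega
  let e0 : X.res U0 ⟶ X := X.resι U0 (dim_res_of_containsFj hU0)
  have he0 : Set.range e0.hom = (U0 : Set X.scheme) := Scheme.Opens.range_ι U0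
  obtain ⟨C, hC1, hC2⟩ := exists_chunk e0
    (fun y hy => show y ∈ Set.range e0.hom from he0 ▸ hU0 y hy) uq
    (fun y hy => show y ∈ Set.range uq.hom from huq ▸ hUq y hy) (by
      rw [huq, he0]
      rintro z hz ⟨y, hy, rfl⟩
      exact hz (hEY y hy).1)
  let u : C.D.U ⟶ X := C.D.j ≫ C.e
  have hu : Set.range u.hom = (Uq : Set X.scheme) := hC2.trans huq
  -- the pieces on the cover
  have hW'W1 : X.ptSubι w.1 ⁻¹ᵁ u.hom.opensRange ≤ W1 := fun p hp =>
    mem_of_not_mem_cutSet p fun h => (hu.le hp : X.ptSubι w.1 p ∈ (Uq : Set X.scheme)) h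
  have hwu : w.1 ∈ u.hom.opensRange := show w.1 ∈ Set.range u.hom from hu ▸ hwUq
  let W' : (X.ptSub w.1).scheme.Opens := X.ptSubι w.1 ⁻¹ᵁ u.hom.opensRange
  have hW' : (W' : Set (X.ptSub w.1).scheme).Nonempty := nonempty_piece hwu
  let WY := (Y.ptSub η).res (closureMap φ L.maps_pt ⁻¹ᵁ W')
  let kη : WY ⟶ Y.ptSub η := ptOpen η (nonempty_preimage L.maps_pt hW')
  let ξ : T.gp WY M i₃ n₃ := (T.pull (preLE L hW' hW1 hW'W1) M i₃ n₃).hom ξ1
  have hξ : (pcls T η kη (nonempty_ptOpen η _)).hom ξ =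
      (pcls T η (ptOpen η (nonempty_preimage L.maps_pt hW1)) (nonempty_ptOpen η _)).hom ξ1 :=
    ocls_pull T _ _ _ (preLE_comp L hW' hW1 hW'W1) _ _ ξ1
  rw [← hξ]
  -- left side: the class on `Uq`
  let fall : WY.scheme ⟶ C.D.U.scheme := (closureMap φ L.maps_pt ∣_ W') ≫ pieceι u w.1
  have hfall : fall ≫ u.hom = kη.hom ≫ Y.ptSubι η ≫ φ := by
    simp only [fall, Category.assoc, pieceι_comp, W']
    rw [← Category.assoc, morphismRestrict_ι, Category.assoc, closureMap_comp]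
    rfl
  have hcWY : WeilCoh.dim WY.scheme + q = WeilCoh.dim X.scheme := by
    rw [kη.dim_eq, dim_ptSub, ← ptPush_pdim_eq L]
    omega
  have hcfall : relCodim WY.scheme C.D.U.scheme = q :=
    relCodim_eq (by rw [u.dim_eq]; exact hcWY)
  have hcpiece : relCodim ((X.ptSub w.1).res W').scheme C.D.U.scheme = q :=
    relCodim_eq (by rw [u.dim_eq, dim_piece hwu]; omega)
  have hL : (P.cpt w M i₃ n₃ i₁ n₁ h1 h1').hom ((L.cpt M i₃ n₃).hom
      ((pcls T η kη (nonempty_ptOpen η _)).hom ξ)) =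
      (fcls T q u C.hU).hom ((T.push fall M i₃ n₃ i₁ n₁ (by rw [hcfall]; exact h1)
        (by rw [hcfall]; exact h1')).hom ξ) := by
    rw [ptPush_cpt_pcls L hW' ξ, pushData_cpt_pcls P w (ptOpen w.1 hW') (nonempty_ptOpen w.1 _) u
      C.hU (pieceι u w.1) (pieceι_comp u w.1) h1 h1' (by rw [hcpiece]; exact h1)
      (by rw [hcpiece]; exact h1')]
    congr 1
    exact push_push T rfl _ _ _ _ _ _ ξ
  rw [hL]
  -- the restriction of the cover
  let Y1o : Y.scheme.Opens := φ ⁻¹ᵁ C.e.hom.opensRange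
  have hY1 : η ∈ Y1o := by
    obtain ⟨c, hc⟩ := C.hY w.1 (w.2.le.trans (Nat.le_succ q))
    exact ⟨c, hc.trans L.maps_pt.symm⟩
  let eY : Y.res Y1o ⟶ Y := Y.resι Y1o (dim_res_eq_of_mem hY1 hη)
  have hsub1 : Set.range (Y1o.ι ≫ φ) ⊆ Set.range C.e.hom := by
    rintro _ ⟨z, rfl⟩; exact z.2
  let φ1 : (Y.res Y1o).scheme ⟶ C.Y.scheme := IsOpenImmersion.lift C.e.hom (Y1o.ι ≫ φ) hsub1
  have hφ1 : φ1 ≫ C.e.hom = Y1o.ι ≫ φ := IsOpenImmersion.lift_fac _ _ _
  haveI : IsProper φ1 := by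
    refine MorphismProperty.of_isPullback
      (isPullback_of_range φ φ1 C.e.hom Y1o.ι hφ1.symm ?_) ‹IsProper φ›
    rw [Scheme.Opens.range_ι]
    rfl
  let OY : (Y.res Y1o).scheme.Opens := φ1 ⁻¹ᵁ C.D.j.hom.opensRange
  have hOY : ∀ z : (Y.res Y1o).scheme, z ∈ OY ↔ eY.hom z ∉ SY := by
    intro z
    have hc : C.e.hom (φ1 z) = φ (eY.hom z) := by rw [← Scheme.Hom.comp_apply, hφ1]; rfl
    constructor
    · rintro ⟨c, hc'⟩ hz
      exact hu.le ⟨c, (congrArg C.e.hom hc').trans hc⟩ hz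
    · intro hz
      obtain ⟨c, hc'⟩ := hu.ge (show φ (eY.hom z) ∈ (Uq : Set X.scheme) from hz)
      exact ⟨c, C.e.hom.isOpenEmbedding.injective (hc'.trans hc.symm)⟩
  have hηO : (⟨η, hY1⟩ : Y1o) ∈ OY := (hOY ⟨η, hY1⟩).mpr fun h => by
    have h5 : φ η ∈ cutSet w.1 W1 := h
    rw [show φ η = w.1 from L.maps_pt] at h5
    exact hwUq h5
  have hdOY : WeilCoh.dim (OY : Scheme.{u}) = WeilCoh.dim (Y.res Y1o).scheme := by
    refine dim_res_eq_of_mem hηO ?_
    rw [← codim_hom eY]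
    exact hη
  let jY : (Y.res Y1o).res OY ⟶ Y.res Y1o := (Y.res Y1o).resι OY hdOY
  have hjY : ContainsFj Y 0 (jY ≫ eY).hom.opensRange := fun y hy => by
    rw [← eq_genericPoint_of_codim_eq_zero hgen hη (Nat.le_zero.mp hy)]
    exact ⟨⟨⟨η, hY1⟩, hηO⟩, rfl⟩
  let fU : ((Y.res Y1o).res OY).scheme ⟶ C.D.U.scheme :=
    IsOpenImmersion.lift C.D.j.hom (OY.ι ≫ φ1) (by rintro _ ⟨z, rfl⟩; exact z.2)
  have hfU : fU ≫ C.D.j.hom = OY.ι ≫ φ1 := IsOpenImmersion.lift_fac _ _ _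
  have hpbU : IsPullback OY.ι fU φ1 C.D.j.hom :=
    isPullback_of_range φ1 fU C.D.j.hom OY.ι hfU.symm (by rw [Scheme.Opens.range_ι]; rfl)
  haveI : IsProper fU := MorphismProperty.of_isPullback hpbU ‹IsProper φ1›
  have hWsub : Set.range (kη.hom ≫ Y.ptSubι η) ⊆ Set.range (jY ≫ eY).hom := by
    rintro _ ⟨p, rfl⟩
    have h5 : φ ((kη.hom ≫ Y.ptSubι η) p) ∈ (Uq : Set X.scheme) := by
      refine hu.le ⟨fall p, ?_⟩
      rw [← Scheme.Hom.comp_apply, hfall]
      rfl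
    have h6 : (kη.hom ≫ Y.ptSubι η) p ∈ Y1o := by
      obtain ⟨c, hc⟩ := hu.ge h5
      exact ⟨C.D.j.hom c, hc⟩
    exact ⟨⟨⟨_, h6⟩, (hOY ⟨_, h6⟩).mpr fun h => h5 h⟩, rfl⟩
  let iW : WY.scheme ⟶ ((Y.res Y1o).res OY).scheme :=
    IsOpenImmersion.lift (jY ≫ eY).hom (kη.hom ≫ Y.ptSubι η) hWsub
  have hiW : iW ≫ (jY ≫ eY).hom = kη.hom ≫ Y.ptSubι η := IsOpenImmersion.lift_fac _ _ _
  have hiWfU : iW ≫ fU = fall := by
    rw [← cancel_mono u.hom, hfall, Category.assoc]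
    show iW ≫ fU ≫ C.D.j.hom ≫ C.e.hom = _
    rw [reassoc_of% hfU, hφ1]
    exact (Category.assoc _ _ _).symm.trans ((Category.assoc _ _ _).symm.trans
      ((congrArg (· ≫ φ) ((Category.assoc _ _ _).trans hiW)).trans (Category.assoc _ _ _)))
  haveI : IsProper iW := by
    haveI : IsProper (iW ≫ fU) := by rw [hiWfU]; infer_instance
    exact IsProper.of_comp iW fU
  have hciW : relCodim WY.scheme ((Y.res Y1o).res OY).scheme = 0 := relCodim_eq_zero (by
    rw [kη.dim_eq, dim_ptSub, ← ptPush_pdim_eq L, hdimY, (jY ≫ eY).dim_eq])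
  have hcfU : relCodim ((Y.res Y1o).res OY).scheme C.D.U.scheme = q :=
    relCodim_eq (by rw [u.dim_eq, (jY ≫ eY).dim_eq]; omega)
  let b := (T.push iW M i₃ n₃ i₃ n₃ (shift_fst' hciW i₃) (shift_snd' hciW n₃)).hom ξ
  have hR : (P'.cpt ⟨η, hη⟩ M i₃ n₃ i₃ n₃ h3 h3').hom ((pcls T η kη (nonempty_ptOpen η _)).hom ξ) =
      (fcls T 0 (jY ≫ eY) hjY).hom b :=
    pushData_cpt_pcls P' ⟨η, hη⟩ kη (nonempty_ptOpen η _) (jY ≫ eY) hjY iW hiW h3 h3' _ _ ξ
  rw [hR]
  have hpush : (T.push fall M i₃ n₃ i₁ n₁ (by rw [hcfall]; exact h1)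
      (by rw [hcfall]; exact h1')).hom ξ =
      (T.push fU M i₃ n₃ i₁ n₁ (by rw [hcfU]; exact h1) (by rw [hcfU]; exact h1')).hom b :=
    (push_push T hiWfU _ _ _ _ _ _ ξ).symm
  rw [hpush, ← resTot_eq_sum Q C h2 h2']
  -- points of codimension one of the cover outside the open part
  have hty : ∀ y : sY, t y.1 ∈ C.s := by
    intro y
    rw [C.hs]
    intro h
    have h5 : φ y.1.1 ∈ (Uq : Set X.scheme) := by
      rw [show φ y.1.1 = (t y.1).1 from (F y.1).maps_pt]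
      exact hu.le h
    exact h5 ((hsY y.1).mp y.2)
  have hmem : ∀ y ∈ sY, y.1 ∈ eY.hom.opensRange := by
    intro y hy
    obtain ⟨c, hc⟩ := C.hY (t y).1 (t y).2.le
    exact ⟨⟨y.1, c, hc.trans (F y).maps_pt.symm⟩, rfl⟩
  have hQ'0 : ∀ y ∉ sY, (Q'.cpt y M i₃ n₃ i₂ n₂ h4 h4').hom ((fcls T 0 (jY ≫ eY) hjY).hom b) = 0 := by
    intro y hy
    refine resData_cpt_eq_zero Q' y _ hjY ?_ h4 h4' b
    have h5 : y.1 ∉ SY := fun h => hy ((hsY y).mpr h)
    have h6 : y.1 ∈ Y1o := by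
      obtain ⟨c, hc⟩ := C.hY (t y).1 (t y).2.le
      exact ⟨c, hc.trans (F y).maps_pt.symm⟩
    exact ⟨⟨⟨y.1, h6⟩, (hOY ⟨y.1, h6⟩).mpr h5⟩, rfl⟩
  conv_rhs => rw [← sum_lof_eq (R := R) sY ((Q'.tot M i₃ n₃ i₂ n₂ h4 h4').hom
    ((fcls T 0 (jY ≫ eY) hjY).hom b)) hQ'0, map_sum]
  simp only [PreTheory.ResData.tot_apply]
  -- the case without such points
  rcases isEmpty_or_nonempty sY with hsE | ⟨⟨y₀⟩⟩
  · have hempty : IsEmpty C.s := by
      refine ⟨fun x => ?_⟩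
      have hx : x.1.1 ∈ cutSet w.1 W1 := by
        have h5 := (C.hs x.1).mp x.2
        by_contra h6
        exact h5 (show x.1.1 ∈ Set.range u.hom from hu.ge h6)
      obtain ⟨p, hp, hpx⟩ := hx
      haveI := irreducibleSpace_ptSub Y η
      obtain ⟨q0, -, hq0⟩ := exists_genericPoint_mem η (O := ⊤) Set.univ_nonempty
      have h6 : w.1 ⤳ x.1.1 := by
        rw [← hpx, specializes_iff_mem_closure, ← range_ptSubι]
        exact ⟨p, rfl⟩
      rw [← L.maps_pt] at h6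
      obtain ⟨y, -, hy⟩ := φ.isClosedMap.specializingMap h6
      have hyS : y ∈ SY := by
        show φ y ∈ (cutSet w.1 W1 : Set X.scheme)
        rw [hy]; exact ⟨p, hp, hpx⟩
      have hyE : y ∉ EY := fun h => by
        have h7 : x.1.1 ∈ (U0 : Set X.scheme) := hU0 x.1.1 x.1.2.le
        exact h7 ⟨y, h, hy⟩
      exact hsE.elim (hpart y hyS hyE).choose
    simp
  -- the decompositions
  let x₀ : C.s := ⟨t y₀.1, hty y₀⟩
  have hcD := C.codim_D x₀
  let fst := pullback.fst φ1 C.D.i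
  let snd := pullback.snd φ1 C.D.i
  let Zp : Obj V := ⟨pullback φ1 C.D.i,
    IsConstructible.of_isClosedImmersion fst (h := inferInstance) (Y.res Y1o).mem⟩
  let D' : Decomp (Y.res Y1o) :=
    { Z := Zp
      U := (Y.res Y1o).res OY
      i := fst
      closedImm := inferInstanceAs (IsClosedImmersion (pullback.fst φ1 C.D.i))
      j := jY
      range_eq := by
        show Set.range OY.ι = (Set.range (pullback.fst φ1 C.D.i))ᶜ
        rw [Scheme.Opens.range_ι, Scheme.Pullback.range_fst, ← Set.preimage_compl, ← C.D.range_eq]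
        rfl }
  haveI : IsClosedImmersion fst := inferInstanceAs (IsClosedImmersion (pullback.fst φ1 C.D.i))
  let Cs : Closeds (Y.res Y1o).scheme := ⟨Set.range fst, fst.isClosedEmbedding.isClosed_range⟩
  let k : (redSub (Y.res Y1o) Cs).scheme ⟶ Zp.scheme :=
    IsClosedImmersion.lift fst (redSubι (Y.res Y1o) Cs) (by
      rw [Scheme.IdealSheafData.ker_subschemeι]
      exact Scheme.IdealSheafData.le_support_iff_le_vanishingIdeal.mp fst.range_subset_ker_support)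
  have hk : k ≫ fst = redSubι (Y.res Y1o) Cs := IsClosedImmersion.lift_fac _ _ _
  haveI : IsClosedImmersion (k ≫ fst) := by rw [hk]; infer_instance
  haveI : IsClosedImmersion k := IsClosedImmersion.of_comp_isClosedImmersion k fst
  haveI : AlgebraicGeometry.Surjective k := ⟨fun z => by
    obtain ⟨r, hr⟩ := (range_redSubι (Y.res Y1o) Cs).ge ⟨z, rfl⟩
    refine ⟨r, fst.isClosedEmbedding.injective ?_⟩
    rw [← Scheme.Hom.comp_apply, hk, hr]⟩
  let D'' : Decomp (Y.res Y1o) :=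
    { Z := redSub (Y.res Y1o) Cs
      U := (Y.res Y1o).res OY
      i := redSubι (Y.res Y1o) Cs
      closedImm := inferInstance
      j := jY
      range_eq := D'.range_eq.trans (congrArg compl (range_redSubι (Y.res Y1o) Cs).symm) }
  have hCs : ∀ z, z ∈ Set.range (redSubι (Y.res Y1o) Cs) → eY.hom z ∈ SY := by
    intro z hz
    by_contra h
    have h5 : z ∈ Set.range jY.hom := ⟨⟨z, (hOY z).mpr h⟩, rfl⟩
    exact (D''.range_eq.le h5) hz
  obtain ⟨g, hg, hgc⟩ := exists_pieces eY (redSubι (Y.res Y1o) Cs) sY hmem (fun y => by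
      refine ⟨redLift (pieceι eY y.1.1) ?_, redLift_fac _ _⟩
      rintro z hz
      rw [range_pieceι, Set.mem_preimage, ← specializes_iff_mem_closure] at hz
      have h5 : eY.hom z ∈ SY := hz.mem_closed SY.isClosed ((hsY y.1).mp y.2)
      show z ∈ Set.range fst
      by_contra h6
      obtain ⟨o, rfl⟩ : z ∈ Set.range jY.hom := D'.range_eq.ge h6
      exact (hOY _).mp o.2 h5) (fun z => by
      refine hpart _ (hCs _ ⟨z, rfl⟩) fun h => ?_
      have h5 : φ (eY.hom (redSubι (Y.res Y1o) Cs z)) ∈ (U0 : Set X.scheme) := by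
        rw [← he0]
        exact hC1 ((redSubι (Y.res Y1o) Cs z).2)
      exact h5 ⟨_, h, rfl⟩)
  haveI hgci : ∀ y, IsClosedImmersion (g y).hom := hg.isClosedImmersion
  have hdW : ∀ y : sY, WeilCoh.dim (pieceObj eY y.1.1).scheme + 1 = WeilCoh.dim Y.scheme := by
    intro y
    have h5 := pdim_add_codim Y y.1.1
    rw [y.1.2] at h5
    rw [dim_piece (hmem y.1 y.2)]
    exact h5
  have hdZ'' : WeilCoh.dim D''.Z.scheme + 1 = WeilCoh.dim Y.scheme :=
    (g y₀).dim_eq ▸ hdW y₀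
  have hdimeq : WeilCoh.dim Zp.scheme = WeilCoh.dim D''.Z.scheme :=
    natDim_eq_of_range_eq fst.isClosedEmbedding.isEmbedding
      (redSubι (Y.res Y1o) Cs).isClosedEmbedding.isEmbedding (range_redSubι (Y.res Y1o) Cs).symm
  have hcD'' : D''.codim = 1 := by
    show relCodim D''.Z.scheme (Y.res Y1o).scheme = _
    rw [relCodim_eq (c := 1) (by rw [eY.dim_eq]; exact hdZ'')]
    rfl
  have hcD' : D'.codim = 1 := by
    show relCodim Zp.scheme (Y.res Y1o).scheme = _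
    rw [relCodim_eq (c := 1) (by rw [eY.dim_eq, hdimeq]; exact hdZ'')]
    rfl
  have hck : relCodim D''.Z.scheme Zp.scheme = 0 := relCodim_eq_zero hdimeq.symm
  have hcsnd : relCodim Zp.scheme C.D.Z.scheme = 0 := relCodim_eq_zero (by
    have h5 := C.dim_W x₀
    have h6 := (C.g x₀).dim_eq
    omega)
  haveI : IsProper snd := inferInstanceAs (IsProper (pullback.snd φ1 C.D.i))
  have hi2 : i₂ = i₃ + 1 - 2 * D''.codim := by rw [hcD'']; push_cast at h4 ⊢; omega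
  have hn2 : n₂ = n₃ - D''.codim := by rw [hcD'']; push_cast at h4' ⊢; omega
  have hi2' : i₂ = i₃ + 1 - 2 * D'.codim := by rw [hcD']; push_cast at h4 ⊢; omega
  have hn2' : n₂ = n₃ - D'.codim := by rw [hcD']; push_cast at h4' ⊢; omega
  have hpb : IsPullback D'.i snd φ1 C.D.i := IsPullback.of_hasPullback φ1 C.D.i
  let z'' : T.gp D''.Z M i₂ n₂ := (T.res D'' M i₃ n₃ i₂ n₂ hi2 hn2).hom b
  -- the composite on the closed parts
  have hsx : ∀ y : sY, Set.range ((g y).hom ≫ k ≫ snd) ⊆ Set.range (C.g ⟨t y.1, hty y⟩).hom := by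
    rintro y _ ⟨p, rfl⟩
    refine C.mem_range_g ⟨t y.1, hty y⟩ _ ?_
    have h5 : ((g y).hom ≫ k ≫ snd) ≫ C.D.i ≫ C.e.hom =
        (pieceι eY y.1.1 ≫ eY.hom) ≫ φ := by
      have h6 : snd ≫ C.D.i = fst ≫ φ1 := (pullback.condition (f := φ1) (g := C.D.i)).symm
      simp only [Category.assoc]
      rw [reassoc_of% h6, hφ1, reassoc_of% hk, reassoc_of% (hgc y)]
      rfl
    show (t y.1).1 ⤳ (((g y).hom ≫ k ≫ snd) ≫ C.D.i ≫ C.e.hom) p
    rw [h5, ← (F y.1).maps_pt, pieceι_comp]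
    refine Specializes.map ?_ φ.continuous
    rw [specializes_iff_mem_closure, ← range_ptSubι]
    exact ⟨_, rfl⟩
  let h : ∀ y : sY, (pieceObj eY y.1.1).scheme ⟶ (C.W ⟨t y.1, hty y⟩).scheme := fun y =>
    IsOpenImmersion.lift (C.g ⟨t y.1, hty y⟩).hom ((g y).hom ≫ k ≫ snd) (hsx y)
  have hh : ∀ y, h y ≫ (C.g ⟨t y.1, hty y⟩).hom = (g y).hom ≫ k ≫ snd := fun y =>
    IsOpenImmersion.lift_fac _ _ _
  haveI hhp : ∀ y, IsProper (h y) := fun y => by
    haveI : IsProper (h y ≫ (C.g ⟨t y.1, hty y⟩).hom) := by rw [hh]; infer_instance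
    exact IsProper.of_comp (h y) (C.g ⟨t y.1, hty y⟩).hom
  have hch : ∀ y : sY, relCodim (pieceObj eY y.1.1).scheme (C.W ⟨t y.1, hty y⟩).scheme = 0 := by
    intro y
    refine relCodim_eq_zero ?_
    have h5 := C.dim_W ⟨t y.1, hty y⟩
    have h6 := hdW y
    omega
  let c : ∀ y : sY, T.gp (pieceObj eY y.1.1) M i₂ n₂ := fun y => (T.pull (g y) M i₂ n₂).hom z''
  let d : ∀ y : sY, T.gp (C.W ⟨t y.1, hty y⟩) M i₂ n₂ := fun y =>
    (T.push (h y) M i₂ n₂ i₂ n₂ (shift_fst' (hch y) i₂) (shift_snd' (hch y) n₂)).hom (c y)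
  have hiC : i₂ = i₁ + 1 - 2 * C.D.codim := by rw [hcD]; exact h2
  have hnC : n₂ = n₁ - C.D.codim := by rw [hcD]; exact h2'
  have hcks : relCodim D''.Z.scheme C.D.Z.scheme = 0 := relCodim_eq_zero (by
    have := hdimeq
    have h5 := hcsnd
    unfold relCodim at h5
    omega)
  have hzX : (T.res C.D M i₁ n₁ i₂ n₂ hiC hnC).hom
      ((T.push fU M i₃ n₃ i₁ n₁ (by rw [hcfU]; exact h1) (by rw [hcfU]; exact h1')).hom b) =
      ∑ y : sY, (T.push (C.g ⟨t y.1, hty y⟩).hom M i₂ n₂ i₂ n₂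
        (shift_fst (C.g ⟨t y.1, hty y⟩) i₂) (shift_snd (C.g ⟨t y.1, hty y⟩) n₂)).hom (d y) := by
    have hrp := DFunLike.congr_fun (congrArg ModuleCat.Hom.hom
      (T.res_push C.D D' φ1 snd fU hpb hpbU M i₃ n₃ i₂ n₂ i₁ n₁ i₂ n₂ hi2' hn2'
        (by rw [hcfU]; exact h1) (by rw [hcfU]; exact h1')
        (shift_fst' hcsnd i₂) (shift_snd' hcsnd n₂) hiC hnC)) b
    refine Eq.trans hrp.symm ?_
    show (T.push snd M i₂ n₂ i₂ n₂ _ _).hom ((T.res D' M i₃ n₃ i₂ n₂ hi2' hn2').hom b) = _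
    have hrd := DFunLike.congr_fun (congrArg ModuleCat.Hom.hom
      (hred (Y.res Y1o) D' D'' (𝟙 _) k (Category.id_comp jY) hk M i₃ n₃ i₂ n₂ hi2' hn2' hi2 hn2
        (shift_fst' hck i₂) (shift_snd' hck n₂))) b
    rw [← hrd]
    show (T.push snd M i₂ n₂ i₂ n₂ _ _).hom ((T.push k M i₂ n₂ i₂ n₂ _ _).hom
      ((T.res D'' M i₃ n₃ i₂ n₂ hi2 hn2).hom ((T.pull (𝟙 _) M i₃ n₃).hom b))) = _
    rw [pull_id_apply, push_push T rfl _ _ _ _ (shift_fst' hcks i₂) (shift_snd' hcks n₂)]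
    show (T.push (k ≫ snd) M i₂ n₂ i₂ n₂ _ _).hom z'' = _
    conv_lhs => rw [← hg.sum_push_pull z'', map_sum]
    refine Finset.sum_congr rfl fun y _ => ?_
    have hcy : relCodim (pieceObj eY y.1.1).scheme C.D.Z.scheme = 0 := relCodim_eq_zero (by
      have : WeilCoh.dim (pieceObj eY y.1.1).scheme = WeilCoh.dim D''.Z.scheme := (g y).dim_eq
      have h5 := hcks
      unfold relCodim at h5
      omega)
    exact (push_push T rfl _ _ _ _ (shift_fst' hcy i₂) (shift_snd' hcy n₂) (c y)).trans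
      (push_push T (hh y) _ _ _ _ _ _ (c y)).symm
  -- assemble
  let lofX := fun (x : C.s) => (DirectSum.lof R (X.cdPt (q + 1))
    (fun z : X.cdPt (q + 1) => T.ptGp X z.1 M i₂ n₂) x.1).comp
      ((pcls T x.1.1 (C.k x) (C.hk x) : T.gp (C.W x) M i₂ n₂ ⟶ _).hom)
  show ∑ x : C.s, lofX x ((T.pull (C.g x) M i₂ n₂).hom ((T.res C.D M i₁ n₁ i₂ n₂ hiC hnC).hom
    ((T.push fU M i₃ n₃ i₁ n₁ _ _).hom b))) = _
  rw [hzX]
  simp only [map_sum]
  rw [Finset.sum_comm]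
  refine Finset.sum_congr rfl fun y _ => ?_
  rw [Finset.sum_eq_single (⟨t y.1, hty y⟩ : C.s)
    (fun x _ hx => by rw [C.pieces.pull_push_ne hx, map_zero]) (by simp), C.pieces.pull_push_self]
  refine Eq.trans ?_ (PreTheory.PtPush.famTot_lof t F M i₂ n₂ y.1 _).symm
  show DirectSum.lof R (X.cdPt (q + 1)) (fun z : X.cdPt (q + 1) => T.ptGp X z.1 M i₂ n₂) (t y.1) _ = _
  congr 1
  have hcomm : (g y).hom ≫ D''.i ≫ eY.hom =
      (pieceHom (hmem y.1 y.2)).hom ≫ Y.ptSubι y.1.1 := by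
    rw [← Category.assoc, hgc, pieceι_comp, pieceHom_hom]
  refine Eq.trans ?_ (congrArg _ (resData_cpt_fcls Q' y.1 eY D'' hjY (pieceHom (hmem y.1 y.2))
    (nonempty_pieceHom (hmem y.1 y.2)) (g y) hcomm h4 h4' hi2 hn2 b).symm)
  refine (ptPush_cpt_general (F y.1) (pieceHom (hmem y.1 y.2)) (nonempty_pieceHom (hmem y.1 y.2))
    (C.k ⟨t y.1, hty y⟩) (C.hk ⟨t y.1, hty y⟩) (h y) ?_ (shift_fst' (hch y) i₂)
    (shift_snd' (hch y) n₂) (c y)).symm
  have h6 : snd ≫ C.D.i = fst ≫ φ1 := (pullback.condition (f := φ1) (g := C.D.i)).symm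
  rw [← C.comm ⟨t y.1, hty y⟩, reassoc_of% (hh y), reassoc_of% h6, hφ1, reassoc_of% hk,
    reassoc_of% (hgc y)]
  exact (Category.assoc _ _ _).symm.trans ((congrArg (· ≫ φ) (pieceι_comp eY y.1.1)).trans
    (Category.assoc _ _ _))

end Groth.L22.BM
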