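import Groth.Agent.L22.BM.Chunk

/-!
The exact sequences of the groups of `F_j X` and their consequences.
-/

universe u

open AlgebraicGeometry CategoryTheory CategoryTheory.Limits Opposite BMCoh TopologicalSpace

namespace Groth.L22.BM

variable {V : ObjectProperty Scheme.{u}} [IsConstructible V] {X Y : Obj V}
  {R : Type u} [CommRing R] {A : Coefs R} {T : PreTheory V R A} {M : A.Cat} {i n i' n' : ℤ}
  {j : ℕ}

theorem containsFj_id (m : ℕ) : ContainsFj X m (𝟙 X : X ⟶ X).hom.opensRange :=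
  fun y _ => ⟨y, rfl⟩

theorem toFj_apply (m : ℕ) (a : T.gp X M i n) :
    ((T.toFj X m i n).app M).hom a = (fcls T m (𝟙 X) (containsFj_id m)).hom a := by
  let U : Idx X (ContainsFj X m) := ⟨⊤, fun _ _ => trivial, dim_top X.scheme⟩
  show ((T.ocolimι X (ContainsFj X m) i n U).app M).hom ((T.pull X.resTop M i n).hom a) = _
  rw [← ocls_resι T U (P_resι U)]
  exact ocls_pull T X.resTop (𝟙 X) _ (Category.comp_id _) _ _ a

theorem fjRes_fcls {m : ℕ} (hm : j ≤ m) (e : Y ⟶ X) (he : ContainsFj X m e.hom.opensRange)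
    (a : T.gp Y M i n) :
    ((T.fjRes X hm i n).app M).hom ((fcls T m e he).hom a) =
      (fcls T j e (containsFj_mono X hm _ he)).hom a :=
  ocolimMap_ocls T _ e he _ a

theorem sum_lof_eq {ι : Type u} [DecidableEq ι] {B : ι → Type u} [∀ x, AddCommGroup (B x)]
    [∀ x, Module R (B x)] (s : Finset ι) (ξ : DirectSum ι B) (h : ∀ x ∉ s, ξ x = 0) :
    ∑ x : s, DirectSum.lof R ι B x.1 (ξ x.1) = ξ := by
  refine DFinsupp.ext fun y => ?_
  rw [DFinsupp.finset_sum_apply]
  by_cases hy : y ∈ s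
  · rw [Finset.sum_eq_single ⟨y, hy⟩]
    · exact DirectSum.lof_apply R (M := B) y _
    · intro x _ hx
      rw [DirectSum.lof_eq_of]
      exact DirectSum.of_eq_of_ne _ _ _ fun h' => hx (Subtype.ext h'.symm)
    · simp
  · rw [h y hy]
    refine Finset.sum_eq_zero fun x _ => ?_
    rw [DirectSum.lof_eq_of]
    exact DirectSum.of_eq_of_ne _ _ _ fun h' => hy (h' ▸ x.2)

/-- An open containing `F_j X` in which a given open of the closure of a point of codimension at
least `j` is closed. -/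
theorem exists_push_open {W : Obj V} (x : X.cdPt j) (k : W ⟶ X.ptSub x.1)
    (hk : (k.hom.opensRange : Set (X.ptSub x.1).scheme).Nonempty) :
    ∃ (Y : Obj V) (e : Y ⟶ X) (_ : ContainsFj X j e.hom.opensRange) (f : W.scheme ⟶ Y.scheme)
      (_ : IsClosedImmersion f), f ≫ e.hom = k.hom ≫ X.ptSubι x.1 ∧
        Set.range f = e.hom ⁻¹' closure ({x.1} : Set X.scheme) ∧
        relCodim W.scheme Y.scheme = j := by
  let O : X.scheme.Opens := ⟨(cutSet x.1 k.hom.opensRange : Set X.scheme)ᶜ,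
    (cutSet x.1 k.hom.opensRange).isClosed.isOpen_compl⟩
  have hO : ContainsFj X j O := fun y hy hy' => by
    have := codim_lt_of_mem_cutSet hk hy'
    rw [x.2] at this
    omega
  let e : X.res O ⟶ X := X.resι O (dim_res_of_containsFj hO)
  have he : Set.range e.hom = (O : Set X.scheme) := Scheme.Opens.range_ι O
  have hsub : Set.range (k.hom ≫ X.ptSubι x.1) ⊆ Set.range e.hom := by
    rw [he]
    rintro _ ⟨w, rfl⟩ ⟨q, hq, hqw⟩
    exact hq ((X.ptSubι x.1).isClosedEmbedding.injective hqw ▸ ⟨w, rfl⟩)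
  let f := IsOpenImmersion.lift e.hom (k.hom ≫ X.ptSubι x.1) hsub
  have hf : f ≫ e.hom = k.hom ≫ X.ptSubι x.1 := IsOpenImmersion.lift_fac _ _ _
  have hrange : Set.range f = e.hom ⁻¹' closure ({x.1} : Set X.scheme) := by
    ext z
    constructor
    · rintro ⟨w, rfl⟩
      rw [Set.mem_preimage, ← Scheme.Hom.comp_apply, hf, ← range_ptSubι]
      exact ⟨k.hom w, rfl⟩
    · intro hz
      rw [Set.mem_preimage, ← range_ptSubι] at hz
      obtain ⟨q, hq⟩ := hz
      obtain ⟨w, hw⟩ := mem_of_not_mem_cutSet (O := k.hom.opensRange) q fun h' =>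
        (he ▸ Set.mem_range_self (f := e.hom) z : e.hom z ∈ (O : Set X.scheme)) (hq ▸ h')
      refine ⟨w, e.hom.isOpenEmbedding.injective ?_⟩
      rw [← Scheme.Hom.comp_apply, hf, ← hq, ← hw]
      rfl
  haveI : IsPreimmersion (f ≫ e.hom) := by rw [hf]; infer_instance
  haveI := IsPreimmersion.of_comp f e.hom
  haveI : IsClosedImmersion f := IsClosedImmersion.of_isPreimmersion f
    (hrange ▸ isClosed_closure.preimage e.hom.continuous)
  refine ⟨_, e, fun y hy => show y ∈ Set.range e.hom from he ▸ hO y hy, f, inferInstance, hf, hrange,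
    relCodim_eq ?_⟩
  have h1 := pdim_add_codim X x.1
  rw [x.2] at h1
  rw [k.dim_eq, dim_ptSub, e.dim_eq, h1]

/-- An element of the groups of `F_j X` is the class of the open part of a chunk. -/
theorem exists_chunk_rep (a : T.fjGp X j M i n) :
    ∃ (C : Chunk X j) (a' : T.gp C.D.U M i n), (fcls T j (C.D.j ≫ C.e) C.hU).hom a' = a := by
  obtain ⟨U0, u, hu, b, rfl⟩ := exists_ocls T a
  obtain ⟨C, -, hC⟩ := exists_chunk (𝟙 X) (containsFj_id (j + 1)) u hu fun y _ => ⟨y, rfl⟩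
  exact ⟨C, (T.pull (homLift (C.D.j ≫ C.e) u hC.le) M i n).hom b,
    ocls_pull T _ u _ (homLift_comp _ _ _) _ _ b⟩

/-- A class of `F_{j+1}X` vanishing on `F_j X` is a sum of push-forwards from pieces. -/
theorem exists_sum_pushF {a : T.fjGp X (j + 1) M i' n'}
    (ha : ((T.fjRes X (Nat.le_succ j) i' n').app M).hom a = 0)
    (hi : i' = i + 2 * ((j : ℤ) + 1)) (hn : n' = n + ((j : ℤ) + 1)) :
    ∃ (C : Chunk X j) (ξ : ∀ x : C.s, T.gp (C.W x) M i n),
      (fcls T (j + 1) C.e C.hY).hom (∑ x : C.s, (C.pushF x hi hn).hom (ξ x)) = a := by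
  obtain ⟨Y0, e0, he0, b, rfl⟩ := exists_ocls T a
  rw [fjRes_fcls] at ha
  obtain ⟨U0, k, hk, hkb⟩ := exists_pull_eq_zero T ha
  obtain ⟨C, hC1, hC2⟩ := exists_chunk e0 he0 (k ≫ e0) hk (opensRange_comp_subset _ _)
  have hz : (T.pull C.D.j M i' n').hom ((T.pull (homLift C.e e0 hC1) M i' n').hom b) = 0 := by
    have : C.D.j ≫ homLift C.e e0 hC1 = homLift (C.D.j ≫ C.e) (k ≫ e0) hC2.le ≫ k :=
      hom_ext_over e0 (by rw [Category.assoc, homLift_comp, Category.assoc, homLift_comp])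
    rw [pull_pull, this, ← pull_pull, hkb, map_zero]
  obtain ⟨ξ, hξ⟩ := C.exists_eq_sum_pushF hi hn hz
  refine ⟨C, ξ, ?_⟩
  rw [hξ]
  exact ocls_pull T _ e0 _ (homLift_comp _ _ _) _ _ b

/-- If the residues at the points vanish then the class extends to `F_{j+1}X`. -/
theorem mem_range_fjRes (C : Chunk X j) (a : T.gp C.D.U M i n)
    (hi : i' = i + 1 - 2 * ((j : ℤ) + 1)) (hn : n' = n - ((j : ℤ) + 1))
    (h : ∀ x : C.s, (pcls T x.1.1 (C.k x) (C.hk x)).hom ((C.rho x hi hn).hom a) = 0) :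
    ∃ c, ((T.fjRes X (Nat.le_succ j) i n).app M).hom c = (fcls T j (C.D.j ≫ C.e) C.hU).hom a := by
  obtain ⟨Y', k1, h1, hv⟩ := C.exists_restr_vanish _ h
  obtain ⟨b, hb⟩ := (C.restr k1 h1).exists_pull_eq_of_rho_eq_zero hi hn
    (a := (T.pull (C.gU k1 h1) M i n).hom a) fun x => by rw [C.rho_restr k1 h1 x hi hn, hv x]
  refine ⟨(fcls T (j + 1) (k1 ≫ C.e) h1).hom b, ?_⟩
  rw [fjRes_fcls,
    ← ocls_pull T (C.resD k1 h1).j (k1 ≫ C.e) _ rfl _ (C.restr k1 h1).hU b, hb]
  exact ocls_pull T (C.gU k1 h1) (C.D.j ≫ C.e) _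
    (by rw [← Category.assoc, ← C.resD_j_comp k1 h1, Category.assoc]) _ _ a

/-- Sums of push-forwards of classes vanishing at the points vanish. -/
theorem fcls_sum_pushF_eq_zero (C : Chunk X j) (hi : i' = i + 2 * ((j : ℤ) + 1))
    (hn : n' = n + ((j : ℤ) + 1)) (ξ : ∀ x : C.s, T.gp (C.W x) M i n)
    (h : ∀ x : C.s, (pcls T x.1.1 (C.k x) (C.hk x)).hom (ξ x) = 0) :
    (fcls T (j + 1) C.e C.hY).hom (∑ x : C.s, (C.pushF x hi hn).hom (ξ x)) = 0 := by
  obtain ⟨Y', k1, h1, hv⟩ := C.exists_restr_vanish ξ h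
  rw [← ocls_pull T k1 C.e _ rfl C.hY h1, map_sum,
    Finset.sum_congr rfl fun x _ => C.pushF_restr k1 h1 x hi hn (ξ x)]
  simp [hv]

theorem fjRes_bijective
    (h0 : ∀ x : X.scheme, WeilCoh.codim X.scheme x = j + 1 →
      IsZero (T.ptGp X x M (i - 2 * ((j : ℤ) + 1)) (n - ((j : ℤ) + 1))))
    (h1 : ∀ x : X.scheme, WeilCoh.codim X.scheme x = j + 1 →
      IsZero (T.ptGp X x M (i + 1 - 2 * ((j : ℤ) + 1)) (n - ((j : ℤ) + 1)))) :
    Function.Bijective ((T.fjRes X (Nat.le_succ j) i n).app M).hom := by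
  refine ⟨(injective_iff_map_eq_zero _).mpr fun a ha => ?_, fun a => ?_⟩
  · obtain ⟨C, ξ, rfl⟩ := exists_sum_pushF ha (i := i - 2 * ((j : ℤ) + 1))
      (n := n - ((j : ℤ) + 1)) (by ring) (by ring)
    exact fcls_sum_pushF_eq_zero C _ _ ξ fun x =>
      @Subsingleton.elim _ (ModuleCat.subsingleton_of_isZero (h0 x.1.1 x.1.2)) _ _
  · obtain ⟨C, a', rfl⟩ := exists_chunk_rep a
    exact mem_range_fjRes C a' (i' := i + 1 - 2 * ((j : ℤ) + 1)) (n' := n - ((j : ℤ) + 1)) rfl rfl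
      fun x => @Subsingleton.elim _ (ModuleCat.subsingleton_of_isZero (h1 x.1.1 x.1.2)) _ _

section Data

theorem subsingleton_pushData : Subsingleton (T.PushData X j) := by
  refine ⟨fun P P' => ?_⟩
  suffices h : P.cpt = P'.cpt by cases P; cases P'; simp only at h; subst h; rfl
  funext x M i n i' n' hi hn
  ext a
  obtain ⟨W, k, hk, b, rfl⟩ := exists_ocls T a
  obtain ⟨Y, e, he, f, hf, comm, -, hc⟩ := exists_push_open x k hk
  rw [pushData_cpt_pcls P x k hk e he f comm hi hn (by rw [hc]; exact hi) (by rw [hc]; exact hn),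
    pushData_cpt_pcls P' x k hk e he f comm hi hn (by rw [hc]; exact hi) (by rw [hc]; exact hn)]

theorem subsingleton_resData : Subsingleton (T.ResData X j) := by
  refine ⟨fun Q Q' => ?_⟩
  suffices h : Q.cpt = Q'.cpt by cases Q; cases Q'; simp only at h; subst h; rfl
  funext x M i n i' n' hi hn
  ext a
  obtain ⟨C, a', rfl⟩ := exists_chunk_rep a
  by_cases hx : x ∈ C.s
  · rw [C.resData_cpt Q ⟨x, hx⟩ hi hn a', C.resData_cpt Q' ⟨x, hx⟩ hi hn a']
  · rw [C.resData_cpt_not_mem Q x hx hi hn a', C.resData_cpt_not_mem Q' x hx hi hn a']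

theorem resTot_eq_sum [DecidableEq (X.cdPt (j + 1))] (Q : T.ResData X j) (C : Chunk X j)
    (hi : i' = i + 1 - 2 * ((j : ℤ) + 1)) (hn : n' = n - ((j : ℤ) + 1)) (a : T.gp C.D.U M i n) :
    ∑ x : C.s, DirectSum.lof R (X.cdPt (j + 1)) (fun y : X.cdPt (j + 1) => T.ptGp X y.1 M i' n') x.1
        ((pcls T x.1.1 (C.k x) (C.hk x)).hom ((C.rho x hi hn).hom a)) =
      (Q.tot M i n i' n' hi hn).hom ((fcls T j (C.D.j ≫ C.e) C.hU).hom a) := by
  conv_rhs => rw [← sum_lof_eq (R := R) C.s ((Q.tot M i n i' n' hi hn).hom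
    ((fcls T j (C.D.j ≫ C.e) C.hU).hom a)) fun x hx => by
      rw [PreTheory.ResData.tot_apply, C.resData_cpt_not_mem Q x hx hi hn a]]
  refine Finset.sum_congr rfl fun x _ => ?_
  rw [PreTheory.ResData.tot_apply, C.resData_cpt Q x hi hn a]

theorem exact_fjRes_resTot (Q : T.ResData X j) (hi : i' = i + 1 - 2 * ((j : ℤ) + 1))
    (hn : n' = n - ((j : ℤ) + 1)) :
    Function.Exact ((T.fjRes X (Nat.le_succ j) i n).app M).hom (Q.tot M i n i' n' hi hn).hom := by
  intro a
  constructor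
  · intro ha
    obtain ⟨C, a', rfl⟩ := exists_chunk_rep a
    refine mem_range_fjRes C a' hi hn fun x => ?_
    rw [← C.resData_cpt Q x hi hn a', ← PreTheory.ResData.tot_apply Q, ha]
    rfl
  · rintro ⟨c, rfl⟩
    obtain ⟨Y, e, he, b, rfl⟩ := exists_ocls T c
    rw [fjRes_fcls]
    refine DFinsupp.ext fun x => ?_
    rw [PreTheory.ResData.tot_apply]
    exact resData_cpt_eq_zero Q x e _ (he x.1 x.2.le) hi hn b

theorem exact_resTot_pushTot (Q : T.ResData X j) (P : T.PushData X (j + 1))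
    (hi : i' = i + 1 - 2 * ((j : ℤ) + 1)) (hn : n' = n - ((j : ℤ) + 1))
    (hi2 : i + 1 = i' + 2 * ((j + 1 : ℕ) : ℤ)) (hn2 : n = n' + ((j + 1 : ℕ) : ℤ)) :
    Function.Exact (Q.tot M i n i' n' hi hn).hom (P.tot M i' n' (i + 1) n hi2 hn2).hom := by
  classical
  have hi3 : i + 1 = i' + 2 * ((j : ℤ) + 1) := by push_cast at hi2; exact hi2
  have hn3 : n = n' + ((j : ℤ) + 1) := by push_cast at hn2; exact hn2
  intro ξ
  constructor
  · intro hξ
    obtain ⟨s0, hs0⟩ : ∃ s0 : Finset (X.cdPt (j + 1)), ∀ x, x ∈ s0 ↔ ξ x ≠ 0 :=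
      ⟨(DFinsupp.finite_support ξ).toFinset, fun x => Set.Finite.mem_toFinset _⟩
    have hr := fun x : X.cdPt (j + 1) => exists_ocls T (X := X.ptSub x.1) (ξ x)
    choose Wx kx hkx bx hbx using hr
    let K : Set X.scheme := ⋃ x ∈ s0, closure ({x.1} : Set X.scheme)
    let E : Set X.scheme := ⋃ x ∈ s0, (cutSet x.1 (kx x).hom.opensRange : Set X.scheme)
    let UK : X.scheme.Opens :=
      ⟨Kᶜ, (s0.finite_toSet.isClosed_biUnion fun _ _ => isClosed_closure).isOpen_compl⟩
    let UE : X.scheme.Opens := ⟨Eᶜ,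
      (s0.finite_toSet.isClosed_biUnion fun x _ => (cutSet _ _).isClosed).isOpen_compl⟩
    have hUK : ContainsFj X j UK := by
      intro y hy hyK
      obtain ⟨x, hx, hxy⟩ := Set.mem_iUnion₂.mp hyK
      have := x.2.symm.le.trans (codim_mono X (specializes_iff_mem_closure.mpr hxy))
      omega
    have hUE : ContainsFj X (j + 1) UE := by
      intro y hy hyE
      obtain ⟨x, hx, hxy⟩ := Set.mem_iUnion₂.mp hyE
      have := codim_lt_of_mem_cutSet (hkx x) hxy
      rw [x.2] at this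
      omega
    let uK : X.res UK ⟶ X := X.resι UK (dim_res_of_containsFj hUK)
    let uE : X.res UE ⟶ X := X.resι UE (dim_res_of_containsFj hUE)
    have huK : Set.range uK.hom = Kᶜ := Scheme.Opens.range_ι UK
    have huE : Set.range uE.hom = Eᶜ := Scheme.Opens.range_ι UE
    have hsub : Set.range uK.hom ⊆ Set.range uE.hom := by
      rw [huK, huE, Set.compl_subset_compl]
      refine Set.iUnion₂_mono fun x _ => ?_
      rintro _ ⟨q, -, rfl⟩
      rw [← range_ptSubι]
      exact ⟨q, rfl⟩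
    obtain ⟨C, hC1, hC2⟩ := exists_chunk uE
      (fun y hy => show y ∈ Set.range uE.hom from huE ▸ hUE y hy) uK
      (fun y hy => show y ∈ Set.range uK.hom from huK ▸ hUK y hy) hsub
    have hs : ∀ x : X.cdPt (j + 1), x ∈ C.s ↔ x ∈ s0 := by
      intro x
      rw [C.hs]
      change x.1 ∉ Set.range (C.D.j ≫ C.e).hom ↔ _
      rw [hC2, huK, Set.mem_compl_iff, not_not]
      refine ⟨fun hx => ?_, fun hx => Set.mem_iUnion₂.mpr ⟨x, hx, subset_closure rfl⟩⟩
      obtain ⟨y, hy, hxy⟩ := Set.mem_iUnion₂.mp hx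
      have := eq_of_specializes_of_codim_le X (specializes_iff_mem_closure.mpr hxy)
        (x.2.le.trans y.2.symm.le)
      rwa [← Subtype.ext this]
    have hle : ∀ x : C.s, Set.range (C.k x).hom ⊆ Set.range (kx x.1).hom := by
      rintro x _ ⟨w, rfl⟩
      refine mem_of_not_mem_cutSet (O := (kx x.1).hom.opensRange) _ fun hw => ?_
      have h1 : C.e.hom ((C.f x) w) ∈ Eᶜ := huE ▸ hC1 ⟨_, rfl⟩
      have h2 : C.e.hom ((C.f x) w) = X.ptSubι x.1.1 ((C.k x).hom w) := by
        show ((C.g x).hom ≫ C.D.i ≫ C.e.hom) w = _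
        rw [C.comm x]
        rfl
      exact h1 (Set.mem_iUnion₂.mpr ⟨x.1, (hs x.1).mp x.2, h2 ▸ hw⟩)
    let η : ∀ x : C.s, T.gp (C.W x) M i' n' := fun x =>
      (T.pull (homLift (C.k x) (kx x.1) (hle x)) M i' n').hom (bx x.1)
    have hη : ∀ x : C.s, (pcls T x.1.1 (C.k x) (C.hk x)).hom (η x) = ξ x.1 := fun x =>
      (ocls_pull T _ _ _ (homLift_comp _ _ _) (hkx x.1) _ _).trans (hbx x.1)
    have hsum : ∑ x : C.s, DirectSum.lof R (X.cdPt (j + 1))
        (fun y : X.cdPt (j + 1) => T.ptGp X y.1 M i' n') x.1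
          ((pcls T x.1.1 (C.k x) (C.hk x)).hom (η x)) = ξ := by
      simp only [hη]
      exact sum_lof_eq C.s ξ fun x hx => not_not.mp fun h => hx ((hs x).mpr ((hs0 x).mpr h))
    have hzero : (fcls T (j + 1) C.e C.hY).hom (∑ x : C.s, (C.pushF x hi3 hn3).hom (η x)) = 0 := by
      rw [map_sum, ← hξ, ← hsum, map_sum]
      refine Finset.sum_congr rfl fun x _ => ?_
      rw [PreTheory.PushData.tot_lof, C.pushData_cpt P x hi2 hn2 (η x)]
    obtain ⟨Y', k1, h1, hk1⟩ := exists_pull_eq_zero T hzero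
    rw [map_sum, Finset.sum_congr rfl fun x _ => C.pushF_restr k1 h1 x hi3 hn3 (η x)] at hk1
    obtain ⟨a, ha⟩ := (C.restr k1 h1).exists_rho_eq hi hn rfl hi3 hn3
      (fun x => (T.pull (C.gW k1 h1 x) M i' n').hom (η x)) hk1
    refine ⟨(fcls T j ((C.resD k1 h1).j ≫ k1 ≫ C.e) (C.restr k1 h1).hU).hom a, ?_⟩
    rw [← resTot_eq_sum Q (C.restr k1 h1) hi hn a]
    refine Eq.trans (Finset.sum_congr rfl fun x _ => ?_) hsum
    rw [ha x]
    congr 1
    exact ocls_pull T (C.gW k1 h1 x) (C.k x) _ rfl (C.hk x) _ (η x)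
  · rintro ⟨a, rfl⟩
    obtain ⟨C, a', rfl⟩ := exists_chunk_rep a
    rw [← resTot_eq_sum Q C hi hn a', map_sum]
    have h := congrArg (fcls T (j + 1) C.e C.hY).hom (C.sum_pushF_rho hi hn rfl hi3 hn3 a')
    rw [map_sum, map_zero] at h
    rw [← h]
    refine Finset.sum_congr rfl fun x _ => ?_
    rw [PreTheory.PushData.tot_lof, C.pushData_cpt P x hi2 hn2]

theorem exact_pushTot_fjRes (P : T.PushData X (j + 1))
    (hi : i' = i + 2 * ((j + 1 : ℕ) : ℤ)) (hn : n' = n + ((j + 1 : ℕ) : ℤ)) :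
    Function.Exact (P.tot M i n i' n' hi hn).hom
      ((T.fjRes X (Nat.le_succ j) i' n').app M).hom := by
  classical
  intro a
  constructor
  · intro ha
    obtain ⟨C, ξ, rfl⟩ := exists_sum_pushF ha (i := i) (n := n) (by push_cast at hi; exact hi)
      (by push_cast at hn; exact hn)
    refine ⟨∑ x : C.s, DirectSum.lof R (X.cdPt (j + 1))
        (fun y : X.cdPt (j + 1) => T.ptGp X y.1 M i n) x.1
          ((pcls T x.1.1 (C.k x) (C.hk x)).hom (ξ x)), ?_⟩
    rw [map_sum, map_sum]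
    refine Finset.sum_congr rfl fun x _ => ?_
    rw [PreTheory.PushData.tot_lof, C.pushData_cpt P x hi hn]
  · rintro ⟨ξ, rfl⟩
    refine DirectSum.induction_on ξ ?_ (fun x c => ?_) (fun a b ha hb => ?_)
    · rw [map_zero, map_zero]
    · rw [← DirectSum.lof_eq_of R, PreTheory.PushData.tot_lof]
      obtain ⟨W, k, hk, b, rfl⟩ := exists_ocls T c
      obtain ⟨Y, e, he, f, hf, comm, hrange, hc⟩ := exists_push_open x k hk
      rw [pushData_cpt_pcls P x k hk e he f comm hi hn (by rw [hc]; exact hi) (by rw [hc]; exact hn),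
        fjRes_fcls]
      let O : Y.scheme.Opens := ⟨(Set.range f)ᶜ, f.isClosedEmbedding.isClosed_range.isOpen_compl⟩
      have hO : ContainsFj Y j O := by
        intro y hy hy'
        have h1 : y ∈ e.hom ⁻¹' closure ({x.1} : Set X.scheme) := hrange ▸ hy'
        have := (x.2.symm.le.trans (codim_mono X (specializes_iff_mem_closure.mpr h1))).trans
          ((codim_hom e y).le.trans hy)
        omega
      let D : Decomp Y :=
        ⟨W, Y.res O, f, hf, Y.resι O (dim_res_of_containsFj hO), Scheme.Opens.range_ι O⟩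
      have hD : ContainsFj X j (D.j ≫ e).hom.opensRange := by
        intro y hy
        obtain ⟨y', rfl⟩ := he y (hy.trans (Nat.le_succ j))
        exact ⟨⟨y', hO y' ((codim_hom e y').symm.le.trans hy)⟩, rfl⟩
      rw [← ocls_pull T D.j e _ rfl (containsFj_mono X (Nat.le_succ j) _ he) hD,
        pull_push_eq_zero (T := T) D, map_zero]
    · rw [map_add, map_add, ha, hb, add_zero]

end Data

end Groth.L22.BM
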