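import Groth.Agent.L22.BM.Sub

/-!
The points of a given codimension in a closed set, good opens around them, and the evaluation of
push-forward and residue data on classes of objects.
-/

universe u

open AlgebraicGeometry CategoryTheory Opposite BMCoh TopologicalSpace

namespace Groth.L22.BM

variable {V : ObjectProperty Scheme.{u}} [IsConstructible V] {X Y Z W : Obj V}

/-- In a closed set of points of codimension at least `m`, outside a closed set of points of larger
codimension, the closures of the finitely many points of codimension `m` are disjoint and cover. -/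
theorem exists_level (m : ℕ) (S : Closeds X.scheme)
    (hS : ∀ y ∈ S, m ≤ WeilCoh.codim X.scheme y) :
    ∃ (E : Closeds X.scheme) (s : Finset (X.cdPt m)), (∀ x, x ∈ s ↔ x.1 ∈ S) ∧
      (∀ y ∈ E, y ∈ S ∧ m < WeilCoh.codim X.scheme y) ∧
      ∀ y ∈ S, y ∉ E → ∃! x : s, x.1.1 ⤳ y := by
  classical
  haveI := IsConstructible.isNoetherian X.mem
  obtain ⟨K, hK, hKS⟩ := NoetherianSpace.exists_finset_irreducible S
  have hKS' : (S : Set X.scheme) = ⋃ k ∈ K, (k : Set X.scheme) := by
    rw [hKS, Closeds.coe_finset_sup, Finset.sup_eq_iSup]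
    simp only [Function.comp_apply, id_eq, Set.iSup_eq_iUnion]
  let η : K → X.scheme := fun k => (hK k).genericPoint
  have hη : ∀ k : K, closure ({η k} : Set X.scheme) = (k.1 : Set X.scheme) := fun k => by
    rw [(hK k).genericPoint_closure_eq, k.1.isClosed.closure_eq]
  have hηS : ∀ k : K, η k ∈ S := fun k => by
    have : η k ∈ (k.1 : Set X.scheme) := hη k ▸ subset_closure rfl
    show η k ∈ (S : Set X.scheme)
    rw [hKS']
    exact Set.mem_biUnion k.2 this
  have hex : ∀ y ∈ S, ∃ k : K, η k ⤳ y := fun y hy => by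
    have hy' : y ∈ (S : Set X.scheme) := hy
    rw [hKS', Set.mem_iUnion₂] at hy'
    obtain ⟨k, hk, hyk⟩ := hy'
    exact ⟨⟨k, hk⟩, specializes_iff_mem_closure.mpr (by rw [hη]; exact hyk)⟩
  have hfin : {x : X.cdPt m | x.1 ∈ S}.Finite := by
    refine ((Set.finite_range η).preimage Subtype.val_injective.injOn).subset fun x hx => ?_
    obtain ⟨k, hk⟩ := hex x.1 hx
    exact ⟨k, eq_of_specializes_of_codim_le X hk (x.2.le.trans (hS _ (hηS k)))⟩
  have hcl : ∀ x : X.cdPt m, x.1 ∈ S → closure ({x.1} : Set X.scheme) ⊆ S := fun x hx =>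
    closure_minimal (Set.singleton_subset_iff.mpr hx) S.isClosed
  let big : Set X.scheme :=
    ⋃ k ∈ {k : K | m < WeilCoh.codim X.scheme (η k)}, closure ({η k} : Set X.scheme)
  let pairs : Set (X.cdPt m × X.cdPt m) := {p | p.1.1 ∈ S ∧ p.2.1 ∈ S ∧ p.1 ≠ p.2}
  let inter : Set X.scheme :=
    ⋃ p ∈ pairs, closure ({p.1.1} : Set X.scheme) ∩ closure ({p.2.1} : Set X.scheme)
  have hbig : IsClosed big := (Set.toFinite _).isClosed_biUnion fun _ _ => isClosed_closure
  have hinter : IsClosed inter :=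
    ((hfin.prod hfin).subset fun p hp => ⟨hp.1, hp.2.1⟩).isClosed_biUnion
      fun _ _ => isClosed_closure.inter isClosed_closure
  refine ⟨⟨big ∪ inter, hbig.union hinter⟩, hfin.toFinset, fun x => hfin.mem_toFinset,
    fun y hy => ?_, fun y hy hyE => ?_⟩
  · rcases hy with hy | hy
    · obtain ⟨k, hk, hy⟩ := Set.mem_iUnion₂.mp hy
      exact ⟨S.isClosed.closure_subset_iff.mpr (Set.singleton_subset_iff.mpr (hηS k)) hy,
        lt_of_lt_of_le hk (codim_mono X (specializes_iff_mem_closure.mpr hy))⟩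
    · obtain ⟨p, hp, hy1, hy2⟩ := Set.mem_iUnion₂.mp hy
      refine ⟨hcl p.1 hp.1 hy1, ?_⟩
      rw [← specializes_iff_mem_closure] at hy1 hy2
      rcases (p.1.2.symm.le.trans (codim_mono X hy1)).lt_or_eq with h | h
      · exact h
      · refine absurd (Subtype.ext ?_) hp.2.2
        rw [eq_of_specializes_of_codim_le X hy1 (h.symm.le.trans p.1.2.symm.le),
          eq_of_specializes_of_codim_le X hy2 (h.symm.le.trans p.2.2.symm.le)]
  · obtain ⟨k, hk⟩ := hex y hy
    have hkm : WeilCoh.codim X.scheme (η k) = m := le_antisymm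
      (not_lt.mp fun h => hyE (Or.inl (Set.mem_iUnion₂.mpr ⟨k, h, specializes_iff_mem_closure.mp hk⟩)))
      (hS _ (hηS k))
    refine ⟨⟨⟨η k, hkm⟩, hfin.mem_toFinset.mpr (hηS k)⟩, hk, fun x hx => ?_⟩
    by_contra hne
    exact hyE (Or.inr (Set.mem_iUnion₂.mpr ⟨(x.1, ⟨η k, hkm⟩),
      ⟨hfin.mem_toFinset.mp x.2, hηS k, fun h => hne (Subtype.ext h)⟩,
      specializes_iff_mem_closure.mp hx, specializes_iff_mem_closure.mp hk⟩))

theorem exists_genericPoint_mem (x : X.scheme) {O : (X.ptSub x).scheme.Opens}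
    (hO : (O : Set (X.ptSub x).scheme).Nonempty) : ∃ p ∈ O, X.ptSubι x p = x := by
  obtain ⟨p, hp⟩ : x ∈ Set.range (X.ptSubι x) := by rw [range_ptSubι]; exact subset_closure rfl
  obtain ⟨q, hq⟩ := hO
  refine ⟨p, Specializes.mem_open ?_ O.2 hq, hp⟩
  rw [← (X.ptSubι x).isClosedEmbedding.isEmbedding.isInducing.specializes_iff, hp,
    specializes_iff_mem_closure, ← range_ptSubι]
  exact ⟨q, rfl⟩

theorem dim_res_of_ptSub {x : X.scheme} (k : W ⟶ X.ptSub x) {O : W.scheme.Opens}
    (hO : (O : Set W.scheme).Nonempty) :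
    WeilCoh.dim (O : Scheme.{u}) = WeilCoh.dim W.scheme := by
  have h : ((k.hom ''ᵁ O : (X.ptSub x).scheme.Opens) : Set (X.ptSub x).scheme).Nonempty :=
    hO.image _
  rw [k.dim_eq, ← (ptIdxMk x _ h).2.2]
  refine natDim_eq_of_range_eq (k.hom.isOpenEmbedding.isEmbedding.comp O.ι.isOpenEmbedding.isEmbedding)
    (k.hom ''ᵁ O).ι.isOpenEmbedding.isEmbedding ?_
  rw [Set.range_comp, Scheme.Opens.range_ι]
  exact (Scheme.Opens.range_ι (k.hom ''ᵁ O)).symm

/-- The closed set removed from `X` to cut the closure of `x` down to an open of it. -/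
noncomputable def cutSet (x : X.scheme) (O : (X.ptSub x).scheme.Opens) : Closeds X.scheme :=
  ⟨X.ptSubι x '' (O : Set (X.ptSub x).scheme)ᶜ,
    (X.ptSubι x).isClosedEmbedding.isClosedMap _ O.2.isClosed_compl⟩

theorem codim_lt_of_mem_cutSet {x : X.scheme} {O : (X.ptSub x).scheme.Opens}
    (hO : (O : Set (X.ptSub x).scheme).Nonempty) {y : X.scheme} (hy : y ∈ cutSet x O) :
    WeilCoh.codim X.scheme x < WeilCoh.codim X.scheme y := by
  obtain ⟨q, hq, rfl⟩ := hy
  obtain ⟨p, hpO, hp⟩ := exists_genericPoint_mem x hO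
  refine codim_lt_of_specializes X ?_ fun h => hq ?_
  · rw [specializes_iff_mem_closure, ← range_ptSubι]; exact ⟨q, rfl⟩
  · rw [← (X.ptSubι x).isClosedEmbedding.injective (hp.trans h)]; exact hpO

theorem mem_of_not_mem_cutSet {x : X.scheme} {O : (X.ptSub x).scheme.Opens} (q : (X.ptSub x).scheme)
    (h : X.ptSubι x q ∉ cutSet x O) : q ∈ O := by
  by_contra hq
  exact h ⟨q, hq, rfl⟩

variable {R : Type u} [CommRing R] {A : Coefs R} {T : PreTheory V R A} {M : A.Cat} {i n i' n' : ℤ}
  {j : ℕ}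

theorem isoOpensRange_hom_rangeIso (e : Y ⟶ X) :
    e.hom.isoOpensRange.hom ≫ (rangeIso e).hom = 𝟙 Y.scheme :=
  e.hom.isoOpensRange.hom_inv_id

/-- Push-forward data on the class of an object over a point. -/
theorem pushData_cpt_pcls (P : T.PushData X j) (x : X.cdPt j) (k : W ⟶ X.ptSub x.1)
    (hk : (k.hom.opensRange : Set (X.ptSub x.1).scheme).Nonempty) (e : Y ⟶ X)
    (he : ContainsFj X j e.hom.opensRange) (f : W.scheme ⟶ Y.scheme) [IsProper f]
    (comm : f ≫ e.hom = k.hom ≫ X.ptSubι x.1)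
    (hi : i' = i + 2 * (j : ℤ)) (hn : n' = n + (j : ℤ))
    (hi' : i' = i + 2 * relCodim W.scheme Y.scheme) (hn' : n' = n + relCodim W.scheme Y.scheme)
    (a : T.gp W M i n) :
    (P.cpt x M i n i' n' hi hn).hom ((pcls T x.1 k hk).hom a) =
      (fcls T j e he).hom ((T.push f M i n i' n' hi' hn').hom a) := by
  let f' : ((X.ptSub x.1).res k.hom.opensRange).scheme ⟶ (X.res e.hom.opensRange).scheme :=
    (rangeIso k).hom ≫ f ≫ e.hom.isoOpensRange.hom
  haveI : IsIso e.hom.isoOpensRange.hom := inferInstance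
  haveI : IsProper f' := by
    dsimp only [f']
    infer_instance
  have hcomm : f' ≫ e.hom.opensRange.ι = k.hom.opensRange.ι ≫ X.ptSubι x.1 := by
    have h1 := k.hom.isoOpensRange_inv_comp
    have h2 : e.hom.isoOpensRange.hom ≫ e.hom.opensRange.ι = e.hom := by
      rw [← rangeIso_hom_comp e, ← Category.assoc, isoOpensRange_hom_rangeIso, Category.id_comp]
    simp only [f', Category.assoc, h2, comm]
    exact rangeIso_hom_comp_assoc k _
  have hc : relCodim ((X.ptSub x.1).res k.hom.opensRange).scheme (X.res e.hom.opensRange).scheme =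
      relCodim W.scheme Y.scheme := by
    unfold relCodim
    rw [(rangeIso k).dim_eq, (rangeIso e).dim_eq]
  have hi'' := hc ▸ hi'
  have hn'' := hc ▸ hn'
  rw [ocls_apply, ocls_apply]
  have := DFunLike.congr_fun (congrArg ModuleCat.Hom.hom
    (P.cpt_spec x M i n i' n' hi hn (oidx e he) (oidx k hk) f' hcomm hi'' hn''))
    ((T.pull (rangeIso k) M i n).hom a)
  refine this.trans ?_
  show ((T.fjι X j i' n' (oidx e he)).app M).hom _ = _
  congr 1
  refine (push_pull_apply T f f' (rangeIso e) (rangeIso k) ?_ ?_ hi' hn' hi'' hn'' a).symm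
  · simp only [f', Category.assoc, isoOpensRange_hom_rangeIso, Category.comp_id]
  · rw [Set.range_eq_univ.mpr (rangeIso k).hom.surjective,
      Set.range_eq_univ.mpr (rangeIso e).hom.surjective, Set.preimage_univ]

/-- Residue data on the class of the open part of a decomposition. -/
theorem resData_cpt_fcls (Q : T.ResData X j) (x : X.cdPt (j + 1)) (e : Y ⟶ X) (D : Decomp Y)
    (hU : ContainsFj X j (D.j ≫ e).hom.opensRange) (k : W ⟶ X.ptSub x.1)
    (hk : (k.hom.opensRange : Set (X.ptSub x.1).scheme).Nonempty) (g : W ⟶ D.Z)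
    (comm : g.hom ≫ D.i ≫ e.hom = k.hom ≫ X.ptSubι x.1)
    (hi : i' = i + 1 - 2 * ((j : ℤ) + 1)) (hn : n' = n - ((j : ℤ) + 1))
    (hiD : i' = i + 1 - 2 * D.codim) (hnD : n' = n - D.codim) (a : T.gp D.U M i n) :
    (Q.cpt x M i n i' n' hi hn).hom ((fcls T j (D.j ≫ e) hU).hom a) =
      (pcls T x.1 k hk).hom
        ((T.pull g M i' n').hom ((T.res D M i n i' n' hiD hnD).hom a)) := by
  have h1 : (rangeIso k ≫ g).hom ≫ D.i ≫ e.hom =
      (oidx (P := fun U => (U : Set (X.ptSub x.1).scheme).Nonempty) k hk).1.ι ≫ X.ptSubι x.1 := by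
    rw [comp_hom, Category.assoc, comm, rangeIso_hom_comp_assoc]
  have h2 : (rangeIso (D.j ≫ e)).hom ≫ D.j.hom ≫ e.hom = (oidx (D.j ≫ e) hU).1.ι :=
    rangeIso_hom_comp (D.j ≫ e)
  have := DFunLike.congr_fun (congrArg ModuleCat.Hom.hom
    (Q.cpt_spec x M i n i' n' hi hn e D (oidx k hk) (rangeIso k ≫ g) h1 (oidx (D.j ≫ e) hU)
      (rangeIso (D.j ≫ e)) h2 hiD hnD)) a
  refine this.trans ?_
  rw [ocls_apply, pull_pull]
  rfl

/-- The residue at a point of a class defined around it vanishes. -/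
theorem resData_cpt_eq_zero (Q : T.ResData X j) (x : X.cdPt (j + 1)) (e : Y ⟶ X)
    (he : ContainsFj X j e.hom.opensRange) (hx : x.1 ∈ e.hom.opensRange)
    (hi : i' = i + 1 - 2 * ((j : ℤ) + 1)) (hn : n' = n - ((j : ℤ) + 1)) (a : T.gp Y M i n) :
    (Q.cpt x M i n i' n' hi hn).hom ((fcls T j e he).hom a) = 0 := by
  let O : Y.scheme.Opens :=
    ⟨(Set.range (pieceι e x.1))ᶜ, (pieceι e x.1).isClosedEmbedding.isClosed_range.isOpen_compl⟩
  have hnot : ∀ y : X.scheme, WeilCoh.codim X.scheme y ≤ j → ¬ x.1 ⤳ y := fun y hy h => by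
    have := x.2.symm.le.trans (codim_mono X h)
    omega
  have hO : ContainsFj Y j O := by
    intro y hy
    show y ∉ Set.range (pieceι e x.1)
    rw [range_pieceι, Set.mem_preimage, ← specializes_iff_mem_closure]
    exact hnot _ ((codim_hom e y).le.trans hy)
  let D : Decomp Y :=
    { Z := pieceObj e x.1
      U := Y.res O
      i := pieceι e x.1
      closedImm := inferInstance
      j := Y.resι O (dim_res_of_containsFj hO)
      range_eq := Scheme.Opens.range_ι O }
  have hU : ContainsFj X j (D.j ≫ e).hom.opensRange := by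
    intro y hy
    obtain ⟨y', rfl⟩ := he y hy
    have : y' ∈ O := hO y' ((codim_hom e y').symm.le.trans hy)
    exact ⟨⟨y', this⟩, rfl⟩
  have hc : D.codim = (j : ℤ) + 1 := by
    have h1 := dim_piece (e := e) hx
    have h2 := pdim_add_codim X x.1
    have h3 := e.dim_eq
    rw [x.2] at h2
    show relCodim (pieceObj e x.1).scheme Y.scheme = _
    rw [relCodim_eq (c := j + 1) (by omega)]
    simp
  rw [← ocls_pull T D.j e _ rfl he hU a,
    resData_cpt_fcls Q x e D hU (pieceHom hx) (nonempty_pieceHom hx) (𝟙 _)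
      (by simp [D, pieceι_comp, pieceHom_hom]) hi hn (by rw [hc]; exact hi) (by rw [hc]; exact hn),
    res_pull_eq_zero]
  simp

end Groth.L22.BM
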