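import Groth.Agent.L22.BM.Exact
import Groth.Prelude.Def_BMCoh4
import Mathlib.AlgebraicGeometry.Morphisms.Proper

/-!
Push-forward data between groups of points: evaluation on classes, uniqueness, and bijectivity when
the map of closures is an isomorphism over a nonempty open.
-/

universe u

open AlgebraicGeometry CategoryTheory Opposite BMCoh TopologicalSpace

namespace Groth.L22.BM

variable {V : ObjectProperty Scheme.{u}} [IsConstructible V] {Y X : Obj V}

theorem pdim_le_pdim_map (φ : Y.scheme ⟶ X.scheme) [IsProper φ] (y : Y.scheme) :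
    WeilCoh.pdim X.scheme (φ y) ≤ WeilCoh.pdim Y.scheme y := by
  obtain ⟨n, hn⟩ : ∃ n, WeilCoh.pdim X.scheme (φ y) = n := ⟨_, rfl⟩
  rw [hn]
  induction n generalizing y with
  | zero => exact Nat.zero_le _
  | succ n ih =>
    obtain ⟨x, hyx, hx⟩ := exists_specializes_pdim_eq X (φ y) (n := n) (hn ▸ Nat.le_succ n)
    obtain ⟨z, hyz, rfl⟩ := (φ.isClosedMap).specializingMap hyx
    have h1 := ih z hx
    have h2 : y ≠ z := fun h => by subst h; omega
    have h3 := pdim_lt_of_specializes Y hyz h2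
    omega

section ClosureMap

variable (φ : Y.scheme ⟶ X.scheme) {y : Y.scheme} {x : X.scheme} (h : φ y = x)

include h in
theorem range_closure_subset :
    Set.range (Y.ptSubι y ≫ φ) ⊆ closure ({x} : Set X.scheme) := by
  rintro _ ⟨p, rfl⟩
  have hp : Y.ptSubι y p ∈ closure ({y} : Set Y.scheme) := range_ptSubι Y y ▸ ⟨p, rfl⟩
  rw [← specializes_iff_mem_closure] at hp
  exact h ▸ specializes_iff_mem_closure.mp (hp.map φ.continuous)

/-- The map of reduced closures of points. -/
noncomputable def closureMap : (Y.ptSub y).scheme ⟶ (X.ptSub x).scheme :=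
  redLift (X := X) (C := ⟨closure {x}, isClosed_closure⟩) (Y.ptSubι y ≫ φ)
    (range_closure_subset φ h)

theorem closureMap_comp : closureMap φ h ≫ X.ptSubι x = Y.ptSubι y ≫ φ :=
  redLift_fac _ _

instance isProper_closureMap [IsProper φ] : IsProper (closureMap φ h) := by
  haveI : IsProper (closureMap φ h ≫ X.ptSubι x) := by rw [closureMap_comp]; infer_instance
  exact IsProper.of_comp (closureMap φ h) (X.ptSubι x)

end ClosureMap

instance isProper_morphismRestrict' {S S' : Scheme.{u}} (f : S ⟶ S') [IsProper f] (U : S'.Opens) :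
    IsProper (f ∣_ U) :=
  IsZariskiLocalAtTarget.restrict (P := @IsProper) ‹_› U

variable {φ : Y.scheme ⟶ X.scheme} [IsProper φ] {y : Y.scheme} {x : X.scheme}
  {R : Type u} [CommRing R] {A : Coefs R} {T : PreTheory V R A} {M : A.Cat} {i n : ℤ}

theorem ptPush_pdim_eq (L : T.PtPush φ y x) :
    WeilCoh.pdim X.scheme x = WeilCoh.pdim Y.scheme y := by
  have h := L.codim_eq
  unfold relCodim at h
  rw [← dim_ptSub X x, ← dim_ptSub Y y]
  omega

omit [IsProper φ] in
theorem nonempty_preimage (h : φ y = x) {W' : (X.ptSub x).scheme.Opens}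
    (hW' : (W' : Set (X.ptSub x).scheme).Nonempty) :
    ((closureMap φ h ⁻¹ᵁ W' : (Y.ptSub y).scheme.Opens) : Set (Y.ptSub y).scheme).Nonempty := by
  obtain ⟨p, hpW, hp⟩ := exists_genericPoint_mem x hW'
  haveI := irreducibleSpace_ptSub Y y
  obtain ⟨q, -, hq⟩ := exists_genericPoint_mem y (O := ⊤) (Set.univ_nonempty)
  refine ⟨q, ?_⟩
  show closureMap φ h q ∈ W'
  rw [show closureMap φ h q = p from (X.ptSubι x).isClosedEmbedding.injective (by
    rw [← Scheme.Hom.comp_apply, closureMap_comp, Scheme.Hom.comp_apply, hq, hp, h])]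
  exact hpW

/-- A nonempty open of the closure of the image whose preimage lies in a given nonempty open. -/
theorem exists_pt_open (L : T.PtPush φ y x) {O : (Y.ptSub y).scheme.Opens}
    (hO : (O : Set (Y.ptSub y).scheme).Nonempty) :
    ∃ W' : (X.ptSub x).scheme.Opens, (W' : Set (X.ptSub x).scheme).Nonempty ∧
      closureMap φ L.maps_pt ⁻¹ᵁ W' ≤ O := by
  let ψ := closureMap φ L.maps_pt
  refine ⟨⟨(ψ '' (O : Set (Y.ptSub y).scheme)ᶜ)ᶜ,
    (ψ.isClosedMap _ O.2.isClosed_compl).isOpen_compl⟩, ?_, fun q hq => by_contra fun h => hq ⟨q, h, rfl⟩⟩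
  haveI := irreducibleSpace_ptSub X x
  obtain ⟨p, -, hp⟩ := exists_genericPoint_mem x (O := ⊤) Set.univ_nonempty
  refine ⟨p, ?_⟩
  rintro ⟨q, hq, hqp⟩
  obtain ⟨q0, hq0, hq0y⟩ := exists_genericPoint_mem y hO
  have h1 : φ (Y.ptSubι y q) = x := by
    rw [← Scheme.Hom.comp_apply, ← closureMap_comp φ L.maps_pt, Scheme.Hom.comp_apply]
    exact (congrArg _ hqp).trans hp
  have hspec : y ⤳ Y.ptSubι y q := by
    rw [specializes_iff_mem_closure, ← range_ptSubι]; exact ⟨q, rfl⟩
  have hne : y ≠ Y.ptSubι y q := fun h2 => hq (by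
    rw [(Y.ptSubι y).isClosedEmbedding.injective (h2.symm.trans hq0y.symm)]
    exact hq0)
  have h2 := pdim_lt_of_specializes Y hspec hne
  have h3 := pdim_le_pdim_map φ (Y.ptSubι y q)
  rw [h1] at h3
  have h4 := ptPush_pdim_eq L
  omega

/-- An open of the closure of a point, as a morphism of objects. -/
noncomputable def ptOpen (x : X.scheme) {W : (X.ptSub x).scheme.Opens}
    (hW : (W : Set (X.ptSub x).scheme).Nonempty) : (X.ptSub x).res W ⟶ X.ptSub x :=
  (X.ptSub x).resι W (ptIdxMk x W hW).2.2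

theorem nonempty_ptOpen (x : X.scheme) {W : (X.ptSub x).scheme.Opens}
    (hW : (W : Set (X.ptSub x).scheme).Nonempty) :
    ((ptOpen x hW).hom.opensRange : Set (X.ptSub x).scheme).Nonempty := by
  obtain ⟨p, hp⟩ := hW
  exact ⟨p, ⟨p, hp⟩, rfl⟩

theorem ptPush_shift (L : T.PtPush φ y x) {W' : (X.ptSub x).scheme.Opens}
    (hW' : (W' : Set (X.ptSub x).scheme).Nonempty) :
    relCodim ((Y.ptSub y).res (closureMap φ L.maps_pt ⁻¹ᵁ W')).scheme
      ((X.ptSub x).res W').scheme = 0 := by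
  refine relCodim_eq_zero ?_
  rw [(ptOpen y (nonempty_preimage L.maps_pt hW')).dim_eq, (ptOpen x hW').dim_eq, dim_ptSub, dim_ptSub,
    ptPush_pdim_eq L]

theorem shift_fst' {S S' : Scheme.{u}} (h : relCodim S S' = 0) (i : ℤ) :
    i = i + 2 * relCodim S S' := by
  rw [h]; ring

theorem shift_snd' {S S' : Scheme.{u}} (h : relCodim S S' = 0) (n : ℤ) :
    n = n + relCodim S S' := by
  rw [h]; ring

/-- A push-forward datum on the class of the preimage of an open. -/
theorem ptPush_cpt_pcls (L : T.PtPush φ y x) {W' : (X.ptSub x).scheme.Opens}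
    (hW' : (W' : Set (X.ptSub x).scheme).Nonempty)
    (a : T.gp ((Y.ptSub y).res (closureMap φ L.maps_pt ⁻¹ᵁ W')) M i n) :
    (L.cpt M i n).hom
        ((pcls T y (ptOpen y (nonempty_preimage L.maps_pt hW')) (nonempty_ptOpen y _)).hom a) =
      (pcls T x (ptOpen x hW') (nonempty_ptOpen x _)).hom
        ((T.push (Y := (X.ptSub x).res W') (closureMap φ L.maps_pt ∣_ W') M i n i n
          (shift_fst' (ptPush_shift L hW') i) (shift_snd' (ptPush_shift L hW') n)).hom a) := by
  let iy := ptIdxMk y _ (nonempty_preimage L.maps_pt hW')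
  let ix := ptIdxMk x W' hW'
  have hcomm : (closureMap φ L.maps_pt ∣_ W') ≫ W'.ι ≫ X.ptSubι x =
      (closureMap φ L.maps_pt ⁻¹ᵁ W').ι ≫ Y.ptSubι y ≫ φ := by
    rw [← Category.assoc, morphismRestrict_ι, Category.assoc, closureMap_comp]
  have := DFunLike.congr_fun (congrArg ModuleCat.Hom.hom
    (L.cpt_spec M i n ⟨closureMap φ L.maps_pt ⁻¹ᵁ W', (ptIdxMk y _ (nonempty_preimage L.maps_pt hW')).2⟩
      ⟨W', (ptIdxMk x W' hW').2⟩ (closureMap φ L.maps_pt ∣_ W') hcomm
      (shift_fst' (ptPush_shift L hW') i) (shift_snd' (ptPush_shift L hW') n))) a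
  have e1 : (pcls T y (ptOpen y (nonempty_preimage L.maps_pt hW')) (nonempty_ptOpen y _)).hom a =
      ((T.ptι Y y i n iy).app M).hom a :=
    ocls_resι T iy _ a
  rw [e1]
  refine this.trans ?_
  exact (ocls_resι T ix (P_resι ix) _).symm

theorem exists_ptPush_rep (L : T.PtPush φ y x) (a : T.ptGp Y y M i n) :
    ∃ (W' : (X.ptSub x).scheme.Opens) (hW' : (W' : Set (X.ptSub x).scheme).Nonempty)
      (b : T.gp ((Y.ptSub y).res (closureMap φ L.maps_pt ⁻¹ᵁ W')) M i n),
      (pcls T y (ptOpen y (nonempty_preimage L.maps_pt hW')) (nonempty_ptOpen y _)).hom b = a := by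
  obtain ⟨W, k, hk, b, rfl⟩ := exists_ocls T a
  obtain ⟨W', hW', hle⟩ := exists_pt_open L hk
  have hsub : Set.range (ptOpen y (nonempty_preimage L.maps_pt hW')).hom ⊆ Set.range k.hom := by
    rintro _ ⟨q, rfl⟩
    exact hle q.2
  exact ⟨W', hW', (T.pull (homLift (ptOpen y (nonempty_preimage L.maps_pt hW')) k hsub) M i n).hom b,
    ocls_pull T _ k _ (homLift_comp _ _ _) hk _ b⟩

theorem subsingleton_ptPush : Subsingleton (T.PtPush φ y x) := by
  refine ⟨fun L L' => ?_⟩
  suffices h : L.cpt = L'.cpt by cases L; cases L'; simp only at h; subst h; rfl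
  funext M i n
  ext a
  obtain ⟨W', hW', b, rfl⟩ := exists_ptPush_rep L a
  exact (ptPush_cpt_pcls L hW' b).trans (ptPush_cpt_pcls L' hW' b).symm

section Iso

variable (L : T.PtPush φ y x)

/-- The inclusion of preimages of nested opens. -/
noncomputable def preLE {W1 W0 : (X.ptSub x).scheme.Opens} (h1 : (W1 : Set (X.ptSub x).scheme).Nonempty)
    (h0 : (W0 : Set (X.ptSub x).scheme).Nonempty) (hle : W1 ≤ W0) :
    (Y.ptSub y).res (closureMap φ L.maps_pt ⁻¹ᵁ W1) ⟶
      (Y.ptSub y).res (closureMap φ L.maps_pt ⁻¹ᵁ W0) :=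
  (Y.ptSub y).resLE ((closureMap φ L.maps_pt).preimage_mono hle)
    ((ptOpen y (nonempty_preimage L.maps_pt h1)).dim_eq.trans
      (ptOpen y (nonempty_preimage L.maps_pt h0)).dim_eq.symm)

theorem preLE_comp {W1 W0 : (X.ptSub x).scheme.Opens} (h1 : (W1 : Set (X.ptSub x).scheme).Nonempty)
    (h0 : (W0 : Set (X.ptSub x).scheme).Nonempty) (hle : W1 ≤ W0) :
    preLE L h1 h0 hle ≫ ptOpen y (nonempty_preimage L.maps_pt h0) =
      ptOpen y (nonempty_preimage L.maps_pt h1) :=
  Hom.ext (Scheme.homOfLE_ι (Y.ptSub y).scheme ((closureMap φ L.maps_pt).preimage_mono hle))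

/-- The inclusion of nested opens of a closure. -/
noncomputable def tgtLE {W1 W0 : (X.ptSub x).scheme.Opens} (h1 : (W1 : Set (X.ptSub x).scheme).Nonempty)
    (h0 : (W0 : Set (X.ptSub x).scheme).Nonempty) (hle : W1 ≤ W0) :
    (X.ptSub x).res W1 ⟶ (X.ptSub x).res W0 :=
  (X.ptSub x).resLE hle ((ptOpen x h1).dim_eq.trans (ptOpen x h0).dim_eq.symm)

theorem tgtLE_comp {W1 W0 : (X.ptSub x).scheme.Opens} (h1 : (W1 : Set (X.ptSub x).scheme).Nonempty)
    (h0 : (W0 : Set (X.ptSub x).scheme).Nonempty) (hle : W1 ≤ W0) :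
    tgtLE h1 h0 hle ≫ ptOpen x h0 = ptOpen x h1 :=
  Hom.ext (Scheme.homOfLE_ι (X.ptSub x).scheme hle)

omit [IsProper φ] in
theorem restrict_square {W1 W0 : (X.ptSub x).scheme.Opens} (hle : W1 ≤ W0) (h : φ y = x) :
    (Y.ptSub y).scheme.homOfLE ((closureMap φ h).preimage_mono hle) ≫ (closureMap φ h ∣_ W0) =
      (closureMap φ h ∣_ W1) ≫ (X.ptSub x).scheme.homOfLE hle := by
  rw [← cancel_mono W0.ι, Category.assoc, Category.assoc, morphismRestrict_ι, Scheme.homOfLE_ι,
    ← Category.assoc, Scheme.homOfLE_ι, morphismRestrict_ι]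

theorem range_homOfLE' {S : Scheme.{u}} {U U' : S.Opens} (h : U ≤ U') :
    Set.range (S.homOfLE h) = U'.ι ⁻¹' (U : Set S) := by
  ext z
  constructor
  · rintro ⟨w, rfl⟩
    show U'.ι ((S.homOfLE h) w) ∈ U
    rw [← Scheme.Hom.comp_apply, Scheme.homOfLE_ι]
    exact w.2
  · intro hz
    exact ⟨⟨U'.ι z, hz⟩, U'.ι.isOpenEmbedding.injective (by
      rw [← Scheme.Hom.comp_apply, Scheme.homOfLE_ι]; rfl)⟩

omit [IsProper φ] in
theorem restrict_range {W1 W0 : (X.ptSub x).scheme.Opens} (hle : W1 ≤ W0) (h : φ y = x) :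
    Set.range ((Y.ptSub y).scheme.homOfLE ((closureMap φ h).preimage_mono hle)) =
      (closureMap φ h ∣_ W0) ⁻¹' Set.range ((X.ptSub x).scheme.homOfLE hle) := by
  rw [range_homOfLE', range_homOfLE']
  ext z
  have e : W0.ι ((closureMap φ h ∣_ W0) z) = closureMap φ h ((closureMap φ h ⁻¹ᵁ W0).ι z) := by
    rw [← Scheme.Hom.comp_apply, morphismRestrict_ι]
    rfl
  exact iff_of_eq (congrArg (· ∈ W1) e.symm)

theorem ptPush_cpt_bijective {W0 : (X.ptSub x).scheme.Opens}
    (hW0 : (W0 : Set (X.ptSub x).scheme).Nonempty) [IsIso (closureMap φ L.maps_pt ∣_ W0)] :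
    Function.Bijective (L.cpt M i n).hom := by
  haveI := irreducibleSpace_ptSub X x
  have hiso : ∀ {W1 : (X.ptSub x).scheme.Opens}, W1 ≤ W0 →
      IsIso (closureMap φ L.maps_pt ∣_ W1) := fun {W1} hle =>
    MorphismProperty.of_isPullback (P := MorphismProperty.isomorphisms Scheme.{u})
      (isPullback_of_range _ _ _ _ (restrict_square hle L.maps_pt) (restrict_range hle L.maps_pt))
      (MorphismProperty.isomorphisms.infer_property _)
  have hbij : ∀ {W1 : (X.ptSub x).scheme.Opens} (h1 : (W1 : Set (X.ptSub x).scheme).Nonempty),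
      W1 ≤ W0 → Function.Bijective (T.push (Y := (X.ptSub x).res W1)
        (closureMap φ L.maps_pt ∣_ W1) M i n i n
        (shift_fst' (ptPush_shift L h1) i) (shift_snd' (ptPush_shift L h1) n)).hom := by
    intro W1 h1 hle
    haveI := hiso hle
    have hc : relCodim ((X.ptSub x).res W1).scheme
        ((Y.ptSub y).res (closureMap φ L.maps_pt ⁻¹ᵁ W1)).scheme = 0 := by
      have := ptPush_shift L h1
      unfold relCodim at this ⊢
      omega
    refine Function.bijective_iff_has_inverse.mpr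
      ⟨(T.push (X := (X.ptSub x).res W1) (Y := (Y.ptSub y).res (closureMap φ L.maps_pt ⁻¹ᵁ W1))
        (inv (closureMap φ L.maps_pt ∣_ W1)) M i n i n (shift_fst' hc i) (shift_snd' hc n)).hom,
        fun a => ?_, fun a => ?_⟩
    · exact (push_push T (IsIso.hom_inv_id (closureMap φ L.maps_pt ∣_ W1)) _ _ _ _
        (shift_fst' (relCodim_self _) i) (shift_snd' (relCodim_self _) n) a).trans (push_id_apply T _ _ a)
    · exact (push_push T (IsIso.inv_hom_id (closureMap φ L.maps_pt ∣_ W1)) _ _ _ _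
        (shift_fst' (relCodim_self _) i) (shift_snd' (relCodim_self _) n) a).trans (push_id_apply T _ _ a)
  have hinter : ∀ {W1 : (X.ptSub x).scheme.Opens}, (W1 : Set (X.ptSub x).scheme).Nonempty →
      ((W1 ⊓ W0 : (X.ptSub x).scheme.Opens) : Set (X.ptSub x).scheme).Nonempty := fun {W1} h1 =>
    nonempty_preirreducible_inter W1.2 W0.2 h1 hW0
  refine ⟨(injective_iff_map_eq_zero _).mpr fun a ha => ?_, fun c => ?_⟩
  · obtain ⟨W', hW', b, rfl⟩ := exists_ptPush_rep L a
    rw [ptPush_cpt_pcls L hW'] at ha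
    obtain ⟨W'', k, hk, hkz⟩ := exists_pull_eq_zero T ha
    let W2 := (k ≫ ptOpen x hW').hom.opensRange ⊓ W0
    have h2 : (W2 : Set (X.ptSub x).scheme).Nonempty := hinter hk
    have hle : W2 ≤ W' := fun q hq => by
      obtain ⟨w, rfl⟩ := hq.1
      exact (k.hom w).2
    have hz : (T.pull (preLE L h2 hW' hle) M i n).hom b = 0 := by
      refine (hbij h2 inf_le_right).1 ?_
      rw [map_zero, ← push_pull_apply T _ _ (tgtLE h2 hW' hle) (preLE L h2 hW' hle)
        (restrict_square hle L.maps_pt) (restrict_range hle L.maps_pt)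
        (shift_fst' (ptPush_shift L hW') i) (shift_snd' (ptPush_shift L hW') n)]
      have hsub : Set.range (ptOpen x h2).hom ⊆ Set.range (k ≫ ptOpen x hW').hom := by
        rintro _ ⟨q, rfl⟩
        exact q.2.1
      rw [show tgtLE h2 hW' hle = homLift (ptOpen x h2) (k ≫ ptOpen x hW') hsub ≫ k from
        hom_ext_over (ptOpen x hW') (by rw [tgtLE_comp, Category.assoc, homLift_comp]),
        ← pull_pull, hkz, map_zero]
    rw [← ocls_pull T (preLE L h2 hW' hle) _ _ (preLE_comp L h2 hW' hle) _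
      (nonempty_ptOpen y (nonempty_preimage L.maps_pt h2)) b, hz, map_zero]
  · obtain ⟨W, k, hk, c', rfl⟩ := exists_ocls T c
    let W2 := k.hom.opensRange ⊓ W0
    have h2 : (W2 : Set (X.ptSub x).scheme).Nonempty := hinter hk
    have hsub : Set.range (ptOpen x h2).hom ⊆ Set.range k.hom := by
      rintro _ ⟨q, rfl⟩
      exact q.2.1
    obtain ⟨b, hb⟩ := (hbij h2 inf_le_right).2
      ((T.pull (homLift (ptOpen x h2) k hsub) M i n).hom c')
    refine ⟨(pcls T y (ptOpen y (nonempty_preimage L.maps_pt h2)) (nonempty_ptOpen y _)).hom b, ?_⟩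
    rw [ptPush_cpt_pcls L h2, hb]
    exact ocls_pull T _ k _ (homLift_comp _ _ _) hk _ c'

end Iso

end Groth.L22.BM
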