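import Groth.Agent.L22.BM.Colim
import Groth.Agent.L18.KerReduced

/-!
Reduced closed subobjects, pieces of closures of points inside an open, and additivity over finitely
many open and closed pieces of equal dimension.
-/

universe u

open AlgebraicGeometry CategoryTheory Opposite BMCoh TopologicalSpace

namespace Groth.L22.BM

theorem isOpenImmersion_of_isOpen_range {S T : Scheme.{u}} (g : S ⟶ T) [IsClosedImmersion g]
    [IsReduced T] (h : IsOpen (Set.range g)) : IsOpenImmersion g := by
  let O : T.Opens := ⟨Set.range g, h⟩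
  haveI : IsClosedImmersion O.ι :=
    IsClosedImmersion.of_isPreimmersion _ (by
      rw [Scheme.Opens.range_ι]; exact g.isClosedEmbedding.isClosed_range)
  have hsub : Set.range g ⊆ Set.range O.ι := (Scheme.Opens.range_ι O).ge
  have hfac : IsOpenImmersion.lift O.ι g hsub ≫ O.ι = g := IsOpenImmersion.lift_fac _ _ _
  haveI : IsClosedImmersion (IsOpenImmersion.lift O.ι g hsub ≫ O.ι) := by
    rw [hfac]; infer_instance
  haveI := IsClosedImmersion.of_comp_isClosedImmersion (IsOpenImmersion.lift O.ι g hsub) O.ι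
  haveI : Surjective (IsOpenImmersion.lift O.ι g hsub) := ⟨fun o => by
    obtain ⟨s, hs⟩ := o.2
    refine ⟨s, O.ι.isOpenEmbedding.injective ?_⟩
    rw [← Scheme.Hom.comp_apply, hfac]
    exact hs⟩
  haveI := isIso_of_isClosedImmersion_of_surjective (IsOpenImmersion.lift O.ι g hsub)
  rw [← hfac]
  infer_instance

variable {V : ObjectProperty Scheme.{u}} [IsConstructible V]

/-- The reduced closed subobject on a closed set. -/
noncomputable abbrev redSub (X : Obj V) (C : Closeds X.scheme) : Obj V :=
  ⟨(Scheme.IdealSheafData.vanishingIdeal C).subscheme,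
    IsConstructible.of_isClosedImmersion (Scheme.IdealSheafData.vanishingIdeal C).subschemeι
      (h := inferInstance) X.mem⟩

/-- Its closed immersion. -/
noncomputable abbrev redSubι (X : Obj V) (C : Closeds X.scheme) :
    (redSub X C).scheme ⟶ X.scheme :=
  (Scheme.IdealSheafData.vanishingIdeal C).subschemeι

theorem range_redSubι (X : Obj V) (C : Closeds X.scheme) :
    Set.range (redSubι X C) = (C : Set X.scheme) := by
  rw [Scheme.IdealSheafData.range_subschemeι, Groth.L18.support_vanishingIdeal]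

instance isReduced_redSub (X : Obj V) (C : Closeds X.scheme) : IsReduced (redSub X C).scheme :=
  Groth.L18.isReduced_vanishingIdeal_subscheme C

instance isReduced_ptSub (X : Obj V) (x : X.scheme) : IsReduced (X.ptSub x).scheme :=
  Groth.L18.isReduced_vanishingIdeal_subscheme _

/-- A morphism from a reduced scheme with image in a closed set factors through its reduced subobject. -/
noncomputable def redLift {X : Obj V} {C : Closeds X.scheme} {S : Scheme.{u}} [IsReduced S]
    (f : S ⟶ X.scheme) (h : Set.range f ⊆ (C : Set X.scheme)) : S ⟶ (redSub X C).scheme :=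
  IsClosedImmersion.lift (redSubι X C) f (by
    rw [Scheme.IdealSheafData.ker_subschemeι]
    exact Groth.L18.vanishingIdeal_le_ker f C h)

@[reassoc (attr := simp)]
theorem redLift_fac {X : Obj V} {C : Closeds X.scheme} {S : Scheme.{u}} [IsReduced S]
    (f : S ⟶ X.scheme) (h : Set.range f ⊆ (C : Set X.scheme)) :
    redLift f h ≫ redSubι X C = f :=
  IsClosedImmersion.lift_fac _ _ _

variable {X Y Z W : Obj V}

theorem dim_res_eq_of_range {U : X.scheme.Opens} (f : W ⟶ X)
    (h : Set.range f.hom ⊆ (U : Set X.scheme)) :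
    WeilCoh.dim (U : Scheme.{u}) = WeilCoh.dim X.scheme := by
  refine le_antisymm (dim_res_le U) ?_
  rcases isEmpty_or_nonempty W.scheme with he | he
  · rw [← f.dim_eq, dim_eq_zero_of_isEmpty W]
    exact Nat.zero_le _
  · obtain ⟨w, hw⟩ := exists_pdim_eq_dim W
    have h1 := pdim_le_dim (X.res U) ⟨f.hom w, h ⟨w, rfl⟩⟩
    rw [← pdim_res U ⟨f.hom w, h ⟨w, rfl⟩⟩] at h1
    have h2 : U.ι (⟨f.hom w, h ⟨w, rfl⟩⟩ : U) = f.hom w := rfl
    rw [h2, pdim_hom, hw, f.dim_eq] at h1
    exact h1

section Piece

variable (e : Y ⟶ X) (x : X.scheme)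

/-- The part of the closure of `x` lying over `Y`. -/
noncomputable abbrev pieceObj : Obj V := (X.ptSub x).res (X.ptSubι x ⁻¹ᵁ e.hom.opensRange)

/-- Its closed immersion into `Y`. -/
noncomputable def pieceι : (pieceObj e x).scheme ⟶ Y.scheme :=
  IsOpenImmersion.lift e.hom ((X.ptSubι x ⁻¹ᵁ e.hom.opensRange).ι ≫ X.ptSubι x) (by
    rintro _ ⟨w, rfl⟩
    exact w.2)

@[reassoc (attr := simp)]
theorem pieceι_comp :
    pieceι e x ≫ e.hom = (X.ptSubι x ⁻¹ᵁ e.hom.opensRange).ι ≫ X.ptSubι x :=
  IsOpenImmersion.lift_fac _ _ _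

instance isClosedImmersion_pieceι : IsClosedImmersion (pieceι e x) := by
  refine MorphismProperty.of_isPullback
    (isPullback_of_range (X.ptSubι x) (pieceι e x) e.hom _ (pieceι_comp e x).symm ?_) inferInstance
  rw [Scheme.Opens.range_ι]
  rfl

theorem range_pieceι : Set.range (pieceι e x) = e.hom ⁻¹' closure ({x} : Set X.scheme) := by
  ext y
  constructor
  · rintro ⟨w, rfl⟩
    rw [Set.mem_preimage, ← Scheme.Hom.comp_apply, pieceι_comp, ← range_ptSubι]
    exact ⟨_, rfl⟩
  · intro hy
    rw [Set.mem_preimage, ← range_ptSubι] at hy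
    obtain ⟨p, hp⟩ := hy
    refine ⟨⟨p, show X.ptSubι x p ∈ Set.range e.hom from ⟨y, hp.symm⟩⟩,
      e.hom.isOpenEmbedding.injective ?_⟩
    rw [← Scheme.Hom.comp_apply, pieceι_comp]
    exact hp

variable {e x}

theorem nonempty_piece (hx : x ∈ e.hom.opensRange) :
    ((X.ptSubι x ⁻¹ᵁ e.hom.opensRange : (X.ptSub x).scheme.Opens) :
      Set (X.ptSub x).scheme).Nonempty := by
  obtain ⟨p, hp⟩ : x ∈ Set.range (X.ptSubι x) := by
    rw [range_ptSubι]; exact subset_closure rfl
  exact ⟨p, show X.ptSubι x p ∈ e.hom.opensRange by rw [hp]; exact hx⟩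

theorem dim_piece (hx : x ∈ e.hom.opensRange) :
    WeilCoh.dim (pieceObj e x).scheme = WeilCoh.pdim X.scheme x :=
  (ptIdxMk x _ (nonempty_piece hx)).2.2.trans (dim_ptSub X x)

/-- The piece as a morphism to the closure of the point. -/
noncomputable def pieceHom (hx : x ∈ e.hom.opensRange) : pieceObj e x ⟶ X.ptSub x :=
  (X.ptSub x).resι _ (ptIdxMk x _ (nonempty_piece hx)).2.2

theorem pieceHom_hom (hx : x ∈ e.hom.opensRange) :
    (pieceHom hx).hom = (X.ptSubι x ⁻¹ᵁ e.hom.opensRange).ι := rfl

theorem opensRange_pieceHom (hx : x ∈ e.hom.opensRange) :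
    (pieceHom hx).hom.opensRange = X.ptSubι x ⁻¹ᵁ e.hom.opensRange :=
  Scheme.Opens.opensRange_ι _

theorem nonempty_pieceHom (hx : x ∈ e.hom.opensRange) :
    ((pieceHom hx).hom.opensRange : Set (X.ptSub x).scheme).Nonempty :=
  opensRange_pieceHom hx ▸ nonempty_piece hx

end Piece

section Pieces

variable {ι : Type u} {W : ι → Obj V} (g : ∀ k, W k ⟶ Z)

/-- A family of open immersions whose images partition the target. -/
def IsPieces : Prop := ∀ z : Z.scheme, ∃! k, z ∈ Set.range (g k).hom

variable {g}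

theorem IsPieces.isClosed_range (hg : IsPieces g) (k : ι) : IsClosed (Set.range (g k).hom) := by
  have : (Set.range (g k).hom)ᶜ = ⋃ l : {l // l ≠ k}, Set.range (g l.1).hom := by
    ext z
    simp only [Set.mem_compl_iff, Set.mem_iUnion]
    constructor
    · intro hz
      obtain ⟨l, hl, -⟩ := hg z
      exact ⟨⟨l, fun h => hz (h ▸ hl)⟩, hl⟩
    · rintro ⟨⟨l, hl⟩, hz⟩ hk
      exact hl ((hg z).unique hz hk)
  exact isOpen_compl_iff.mp (this ▸ isOpen_iUnion fun l => (g l.1).hom.isOpenEmbedding.isOpen_range)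

theorem IsPieces.isClosedImmersion (hg : IsPieces g) (k : ι) : IsClosedImmersion (g k).hom :=
  IsClosedImmersion.of_isPreimmersion _ (hg.isClosed_range k)

variable {R : Type u} [CommRing R] {A : Coefs R} {T : PreTheory V R A} {M : A.Cat} {i n : ℤ}

theorem IsPieces.pull_push_ne (hg : IsPieces g) {k l : ι} (h : l ≠ k)
    [IsClosedImmersion (g k).hom] (a : T.gp (W k) M i n) :
    (T.pull (g l) M i n).hom
      ((T.push (g k).hom M i n i n (shift_fst (g k) i) (shift_snd (g k) n)).hom a) = 0 := by
  let O : Z.scheme.Opens := ⟨(Set.range (g k).hom)ᶜ, (hg.isClosed_range k).isOpen_compl⟩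
  have hl : Set.range (g l).hom ⊆ (O : Set Z.scheme) := fun z hz hk => h ((hg z).unique hz hk)
  let oι : Z.res O ⟶ Z := Z.resι O (dim_res_eq_of_range (g l) hl)
  have hl' : Set.range (g l).hom ⊆ Set.range oι.hom := hl.trans (Scheme.Opens.range_ι O).ge
  rw [← homLift_comp (g l) oι hl', ← pull_pull,
    pull_push_eq_zero (T := T)
      ⟨W k, Z.res O, (g k).hom, inferInstance, oι, Scheme.Opens.range_ι O⟩, map_zero]

theorem IsPieces.eq_zero [Finite ι] (hg : IsPieces g) {a : T.gp Z M i n}
    (ha : ∀ k, (T.pull (g k) M i n).hom a = 0) : a = 0 := by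
  classical
  haveI := Fintype.ofFinite ι
  rcases isEmpty_or_nonempty ι with he | he
  · haveI : IsEmpty Z.scheme := ⟨fun z => he.elim (hg z).choose⟩
    exact eq_zero_of_isEmpty T a
  have key : ∀ (s : Finset ι), s.Nonempty → ∀ (O : Z.scheme.Opens)
      (hd : WeilCoh.dim (O : Scheme.{u}) = WeilCoh.dim Z.scheme),
      (O : Set Z.scheme) = ⋃ k ∈ s, Set.range (g k).hom →
      (T.pull (Z.resι O hd) M i n).hom a = 0 := by
    intro s hs
    induction hs using Finset.Nonempty.cons_induction with
    | singleton k =>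
      intro O hd hO
      have h : Set.range (Z.resι O hd).hom ⊆ Set.range (g k).hom :=
        (Scheme.Opens.range_ι O).trans_subset (hO.trans (by simp)).le
      rw [← homLift_comp (Z.resι O hd) (g k) h, ← pull_pull, ha k, map_zero]
    | cons k s hk hs ih =>
      intro O hd hO
      let O' : Z.scheme.Opens :=
        ⟨⋃ l ∈ s, Set.range (g l).hom,
          isOpen_biUnion fun l _ => (g l).hom.isOpenEmbedding.isOpen_range⟩
      obtain ⟨l₀, hl₀⟩ := hs
      have hd' : WeilCoh.dim (O' : Scheme.{u}) = WeilCoh.dim Z.scheme :=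
        dim_res_eq_of_range (g l₀) (Set.subset_biUnion_of_mem (u := fun l => Set.range (g l).hom) hl₀)
      have hO1 : Set.range (g k).hom ⊆ Set.range (Z.resι O hd).hom :=
        (Set.subset_biUnion_of_mem (u := fun l => Set.range (g l).hom) (s := (↑(s.cons k hk) : Set ι))
          (by simp)).trans (hO.ge.trans (Scheme.Opens.range_ι O).ge)
      have hO2 : Set.range (Z.resι O' hd').hom ⊆ Set.range (Z.resι O hd).hom := by
        refine (Scheme.Opens.range_ι O').trans_subset
          (Set.Subset.trans ?_ (hO.ge.trans (Scheme.Opens.range_ι O).ge))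
        refine Set.iUnion₂_subset fun l hl => ?_
        exact Set.subset_biUnion_of_mem (u := fun l => Set.range (g l).hom)
          (s := (↑(s.cons k hk) : Set ι)) (by simp [hl])
      refine eq_zero_of_complement (homLift (g k) (Z.resι O hd) hO1)
        (homLift (Z.resι O' hd') (Z.resι O hd) hO2) ?_ ?_ ?_
      · ext z
        have e1 : z ∈ Set.range (homLift (g k) (Z.resι O hd) hO1).hom ↔
            (Z.resι O hd).hom z ∈ Set.range (g k).hom := by
          conv_rhs => rw [← homLift_comp (g k) (Z.resι O hd) hO1]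
          simp only [comp_hom, Scheme.Hom.comp_apply, Set.mem_range]
          exact ⟨fun ⟨w, hw⟩ => ⟨w, hw ▸ rfl⟩,
            fun ⟨w, hw⟩ => ⟨w, (Z.resι O hd).hom.isOpenEmbedding.injective hw⟩⟩
        have e2 : z ∈ Set.range (homLift (Z.resι O' hd') (Z.resι O hd) hO2).hom ↔
            (Z.resι O hd).hom z ∈ O' := by
          rw [← SetLike.mem_coe, ← Scheme.Opens.range_ι O']
          change _ ↔ (Z.resι O hd).hom z ∈ Set.range (Z.resι O' hd').hom
          conv_rhs => rw [← homLift_comp (Z.resι O' hd') (Z.resι O hd) hO2]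
          simp only [comp_hom, Scheme.Hom.comp_apply, Set.mem_range]
          exact ⟨fun ⟨w, hw⟩ => ⟨w, hw ▸ rfl⟩,
            fun ⟨w, hw⟩ => ⟨w, (Z.resι O hd).hom.isOpenEmbedding.injective hw⟩⟩
        rw [Set.mem_compl_iff, e1, e2]
        have hz : (Z.resι O hd).hom z ∈ (O : Set Z.scheme) := z.2
        rw [hO, Set.mem_iUnion₂] at hz
        obtain ⟨l, hl, hzl⟩ := hz
        constructor
        · intro h1 h2
          obtain ⟨m, hm, hzm⟩ := Set.mem_iUnion₂.mp h2
          exact hk ((hg _).unique h1 hzm ▸ hm)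
        · intro h2
          rcases Finset.mem_cons.mp hl with rfl | hl
          · exact hzl
          · exact absurd (Set.mem_iUnion₂.mpr ⟨l, hl, hzl⟩) h2
      · rw [pull_pull, homLift_comp, ha k]
      · rw [pull_pull, homLift_comp]
        exact ih O' hd' rfl
  have htop : ((⊤ : Z.scheme.Opens) : Set Z.scheme) =
      ⋃ k ∈ Finset.univ, Set.range (g k).hom := by
    ext z
    simpa using (hg z).exists
  have h0 := key Finset.univ Finset.univ_nonempty ⊤ (dim_top Z.scheme) htop
  haveI : IsIso (Z.resι ⊤ (dim_top Z.scheme)).hom := inferInstanceAs (IsIso Z.scheme.topIso.hom)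
  exact (pull_bijective T (Z.resι ⊤ (dim_top Z.scheme))).1 (h0.trans (map_zero _).symm)

theorem IsPieces.pull_push_self (hg : IsPieces g) (k : ι) [IsClosedImmersion (g k).hom]
    (a : T.gp (W k) M i n) :
    (T.pull (g k) M i n).hom
      ((T.push (g k).hom M i n i n (shift_fst (g k) i) (shift_snd (g k) n)).hom a) = a :=
  Groth.L22.BM.pull_push_self (g k) a

/-- A class is the sum of the push-forwards of its restrictions to the pieces. -/
theorem IsPieces.sum_push_pull [Fintype ι] (hg : IsPieces g)
    [∀ k, IsClosedImmersion (g k).hom] (a : T.gp Z M i n) :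
    ∑ k, (T.push (g k).hom M i n i n (shift_fst (g k) i) (shift_snd (g k) n)).hom
      ((T.pull (g k) M i n).hom a) = a := by
  classical
  refine sub_eq_zero.mp (hg.eq_zero fun l => ?_)
  rw [map_sub, map_sum, Finset.sum_eq_single l, hg.pull_push_self, sub_self]
  · exact fun k _ hk => hg.pull_push_ne hk.symm _
  · simp

theorem IsPieces.pull_sum_push [Fintype ι] (hg : IsPieces g)
    [∀ k, IsClosedImmersion (g k).hom] (a : ∀ k, T.gp (W k) M i n) (l : ι) :
    (T.pull (g l) M i n).hom
      (∑ k, (T.push (g k).hom M i n i n (shift_fst (g k) i) (shift_snd (g k) n)).hom (a k)) = a l := by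
  classical
  rw [map_sum, Finset.sum_eq_single l, hg.pull_push_self]
  · exact fun k _ hk => hg.pull_push_ne hk.symm _
  · simp

end Pieces

end Groth.L22.BM
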